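import Cfsg.Agent.Kinf.StrongSections
import Cfsg.Agent.ZJ.QdFusion

/-!
No set of isomorphism-invariant functors controls strong fusion in `Qd(p)`.
-/

set_option autoImplicit false
set_option linter.unusedSectionVars false
set_option linter.style.haveILetI false

namespace CfsgLib.SThreeFree

open Subgroup CfsgLib.Functor CfsgLib.ZJ
open scoped CfsgLib.Functor

universe u

variable {p : ℕ} [Fact p.Prime]

theorem not_ctl_qd {X : Type u} [Group X] [Finite X] (e : X ≃* ↥(Cfsg.qd p))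
    {𝓦 : Set (∀ (Q : Type u) [Group Q], Subgroup Q)}
    (h𝓦 : ∀ W ∈ 𝓦, Cfsg.IsCharPFunctor.{u} p W) : ¬ CfsgLib.Kinf.Ctl p 𝓦 X := by
  intro hctl
  let el : ZMod p → ZMod p → SL2 (ZMod p) → X := fun c d A =>
    e.symm ⟨affMat c d A, affMat_mem_qd c d A⟩
  have hmul : ∀ c d A c' d' A', el c d A * el c' d' A' =
      el (c + (A 0 0 * c' + A 0 1 * d')) (d + (A 1 0 * c' + A 1 1 * d')) (A * A') := by
    intro c d A c' d' A'
    simp only [el, ← map_mul]
    congr 1
    exact Subtype.ext (by rw [Subgroup.coe_mul, affMat_mul])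
  have hel : ∀ {c d A c' d' A'}, el c d A = el c' d' A' → c = c' ∧ d = d' ∧ A = A' :=
    fun h => affMat_inj (congrArg Subtype.val (e.symm.injective h))
  have hdec : ∀ x : X, ∃ c d A, x = el c d A := by
    intro x
    obtain ⟨c, d, A, h⟩ := exists_affMat_of_mem_qd (e x).2
    exact ⟨c, d, A, e.injective (by simp only [el, MulEquiv.apply_symm_apply]; exact Subtype.ext h)⟩
  have h1 : el 0 0 1 = 1 := by
    refine e.injective ?_
    simp only [el, MulEquiv.apply_symm_apply, map_one]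
    exact Subtype.ext affMat_one
  let U : Subgroup X :=
    { carrier := {x | ∃ c d a, x = el c d (upper a)}
      one_mem' := ⟨0, 0, 0, by rw [upper_zero, h1]⟩
      mul_mem' := by
        rintro _ _ ⟨c, d, a, rfl⟩ ⟨c', d', a', rfl⟩
        exact ⟨_, _, a + a', by rw [hmul, upper_mul]⟩
      inv_mem' := by
        rintro _ ⟨c, d, a, rfl⟩
        refine ⟨-(c + (-a) * d), -d, -a, inv_eq_of_mul_eq_one_left ?_⟩
        rw [hmul, upper_mul, neg_add_cancel, upper_zero, upper_00, upper_01, upper_10, upper_11,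
          ← h1]
        congr 1 <;> ring }
  have hPA : IsPGroup p U := by
    refine IsPGroup.of_card (n := 3) ?_
    rw [Nat.card_congr (Equiv.ofBijective (fun z : ZMod p × ZMod p × ZMod p =>
      (⟨el z.1 z.2.1 (upper z.2.2), _, _, _, rfl⟩ : U)) ⟨?_, ?_⟩).symm]
    · simp only [Nat.card_prod, Nat.card_zmod]
      ring
    · rintro ⟨c, d, a⟩ ⟨c', d', a'⟩ h
      obtain ⟨rfl, rfl, hA⟩ := hel (congrArg Subtype.val h)
      have : a = a' := by simpa using congrArg (fun M : SL2 (ZMod p) => M 0 1) hA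
      rw [this]
    · rintro ⟨_, c, d, a, rfl⟩
      exact ⟨(c, d, a), rfl⟩
  let V : Subgroup X :=
    { carrier := {x | ∃ c d, x = el c d 1}
      one_mem' := ⟨0, 0, h1.symm⟩
      mul_mem' := by
        rintro _ _ ⟨c, d, rfl⟩ ⟨c', d', rfl⟩
        exact ⟨_, _, by rw [hmul, one_mul]⟩
      inv_mem' := by
        rintro _ ⟨c, d, rfl⟩
        refine ⟨-c, -d, inv_eq_of_mul_eq_one_left ?_⟩
        rw [hmul, one_mul, ← h1]
        simp }
  obtain ⟨T, hT⟩ := hPA.exists_le_sylow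
  have hcen : ∀ z ∈ (T : Subgroup X), (∀ y ∈ (T : Subgroup X), y * z = z * y) → z ∈ V →
      ∃ c, z = el c 0 1 := by
    rintro _ - hcomm ⟨c0, d0, rfl⟩
    have hu := hcomm _ (hT ⟨0, 0, 1, rfl⟩)
    rw [hmul, hmul] at hu
    obtain ⟨hu1, -, -⟩ := hel hu
    have hd0 : d0 = 0 := by simpa using hu1
    exact ⟨c0, by rw [hd0]⟩
  have hVn : ∀ x y : X, y ∈ V → x * y * x⁻¹ ∈ V := by
    rintro x _ ⟨c, d, rfl⟩
    obtain ⟨c', d', A, rfl⟩ := hdec x
    refine ⟨A 0 0 * c + A 0 1 * d, A 1 0 * c + A 1 1 * d, ?_⟩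
    rw [mul_inv_eq_iff_eq_mul, hmul, hmul, mul_one, one_mul]
    simp [add_comm]
  have hVT : V ≤ (T : Subgroup X) := by
    rintro _ ⟨c, d, rfl⟩
    exact hT ⟨c, d, 0, by rw [upper_zero]⟩
  -- `T = U`
  have hTU : (T : Subgroup X) ≤ U := by
    haveI := T.2.isNilpotent
    haveI : (V.subgroupOf (T : Subgroup X)).Normal :=
      ⟨fun y hy x => hVn (x : X) (y : X) hy⟩
    have hP1 : V.subgroupOf (T : Subgroup X) ≠ ⊥ := by
      intro h
      have hmem : (⟨el 1 0 1, hVT ⟨1, 0, rfl⟩⟩ : (T : Subgroup X)) ∈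
          V.subgroupOf (T : Subgroup X) := mem_subgroupOf.mpr ⟨1, 0, rfl⟩
      rw [h, mem_bot] at hmem
      exact one_ne_zero (hel ((congrArg Subtype.val hmem).trans h1.symm)).1
    obtain ⟨z, hz, hz1⟩ := (bot_or_exists_ne_one _).resolve_left
      (PGroupBasic.inf_center_ne_bot _ hP1)
    have hcomm : ∀ y ∈ (T : Subgroup X), y * (z : X) = (z : X) * y := fun y hy =>
      congrArg Subtype.val (mem_center_iff.mp hz.2 ⟨y, hy⟩)
    obtain ⟨c0, hz0⟩ := hcen z z.2 hcomm hz.1
    have hc0 : c0 ≠ 0 := by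
      rintro rfl
      exact hz1 (Subtype.ext (hz0.trans h1))
    intro x hx
    obtain ⟨c, d, A, rfl⟩ := hdec x
    have hA := hcomm _ hx
    rw [hz0, hmul, hmul] at hA
    obtain ⟨hA1, hA2, -⟩ := hel hA
    simp at hA1 hA2
    have h00 : A 0 0 = 1 := by
      have : (A 0 0 - 1) * c0 = 0 := by linear_combination hA1
      exact sub_eq_zero.mp ((mul_eq_zero.mp this).resolve_right hc0)
    have h10 : A 1 0 = 0 := hA2.resolve_right hc0
    have h11 : A 1 1 = 1 := by
      have := sl2_det A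
      rw [h00, h10] at this
      simpa using this
    exact ⟨c, d, A 0 1, congrArg (el c d) (sl2_ext h00 rfl h10 h11)⟩
  have hTeq : (T : Subgroup X) = U := le_antisymm hTU hT
  let Bor : Subgroup X :=
    { carrier := {x | ∃ c d, ∃ A : SL2 (ZMod p), x = el c d A ∧ A 1 0 = 0}
      one_mem' := ⟨0, 0, 1, h1.symm, rfl⟩
      mul_mem' := by
        rintro _ _ ⟨c, d, A, rfl, hA⟩ ⟨c', d', A', rfl, hA'⟩
        exact ⟨_, _, A * A', hmul _ _ _ _ _ _, by
          rw [Matrix.SpecialLinearGroup.coe_mul, Matrix.mul_apply, Fin.sum_univ_two, hA, hA']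
          simp⟩
      inv_mem' := by
        rintro _ ⟨c, d, A, rfl, hA⟩
        refine ⟨-(A⁻¹ 0 0 * c + A⁻¹ 0 1 * d), -(A⁻¹ 1 0 * c + A⁻¹ 1 1 * d), A⁻¹,
          inv_eq_of_mul_eq_one_left ?_, ?_⟩
        · rw [hmul, inv_mul_cancel, neg_add_cancel, neg_add_cancel, h1]
        · rw [Matrix.SpecialLinearGroup.coe_inv, Matrix.adjugate_fin_two]
          simp [hA] }
  -- the automorphism of `T` exchanging the two largest abelian subgroups
  have hmemT : ∀ x : X, x ∈ (T : Subgroup X) ↔ ∃ c d a, x = el c d (upper a) := by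
    intro x
    rw [hTeq]
    rfl
  choose cf df af hf using fun x : (T : Subgroup X) => (hmemT x).1 x.2
  have hcoord : ∀ (x : (T : Subgroup X)) c d a, (x : X) = el c d (upper a) →
      cf x = c ∧ df x = d ∧ af x = a := by
    intro x c d a h
    rw [hf x] at h
    obtain ⟨h1, h2, h3⟩ := hel h
    exact ⟨h1, h2, by simpa using congrArg (fun M : SL2 (ZMod p) => M 0 1) h3⟩
  let φ₀ : ↥(T : Subgroup X) → ↥(T : Subgroup X) := fun x =>
    ⟨el (af x * df x - cf x) (af x) (upper (df x)), (hmemT _).2 ⟨_, _, _, rfl⟩⟩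
  have hinv : ∀ x, φ₀ (φ₀ x) = x := by
    intro x
    obtain ⟨h2, h3, h4⟩ := hcoord (φ₀ x) _ _ _ rfl
    refine Subtype.ext ?_
    show el (af (φ₀ x) * df (φ₀ x) - cf (φ₀ x)) (af (φ₀ x)) (upper (df (φ₀ x))) = x
    rw [h2, h3, h4, hf x]
    congr 1
    ring
  let φ : (T : Subgroup X) ≃* (T : Subgroup X) :=
    { toFun := φ₀
      invFun := φ₀
      left_inv := hinv
      right_inv := hinv
      map_mul' := fun x y => by
        have hxy : ((x * y : (T : Subgroup X)) : X) =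
            el (cf x + cf y + af x * df y) (df x + df y) (upper (af x + af y)) := by
          rw [Subgroup.coe_mul, hf x, hf y, hmul, upper_mul, upper_00, upper_01, upper_10, upper_11]
          congr 1 <;> ring
        obtain ⟨h2, h3, h4⟩ := hcoord _ _ _ _ hxy
        refine Subtype.ext ?_
        show el (af (x * y) * df (x * y) - cf (x * y)) (af (x * y)) (upper (df (x * y))) =
          el (af x * df x - cf x) (af x) (upper (df x)) * el (af y * df y - cf y) (af y) (upper (df y))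
        rw [h2, h3, h4, hmul, upper_mul, upper_00, upper_01, upper_10, upper_11]
        congr 1 <;> ring }
  -- normalizers of the values
  have hN : ∀ W ∈ 𝓦, normalizer ((Cfsg.inducedFunctor (G := X) W (T : Subgroup X) : Subgroup X)
      : Set X) ≤ Bor := by
    intro W hW g hg
    obtain ⟨c, d, A, rfl⟩ := hdec g
    refine ⟨c, d, A, rfl, ?_⟩
    by_contra hA
    haveI := T.2.isNilpotent
    have hne : Nontrivial (T : Subgroup X) := by
      refine ⟨⟨⟨el 1 0 1, hVT ⟨1, 0, rfl⟩⟩, 1, fun h => ?_⟩⟩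
      exact one_ne_zero (hel ((congrArg Subtype.val h).trans h1.symm)).1
    have hW1 : W (T : Subgroup X) ≠ ⊥ := (h𝓦 W hW).1 _ T.2 hne
    have hinvW : ∀ ψ : (T : Subgroup X) ≃* (T : Subgroup X), ∀ w ∈ W (T : Subgroup X),
        ψ w ∈ W (T : Subgroup X) := fun ψ w hw =>
      ((h𝓦 W hW).2 _ _ T.2 ψ).le (mem_map_of_mem ψ.toMonoidHom hw)
    haveI : (W (T : Subgroup X)).Normal := ⟨fun w hw t => hinvW (MulAut.conj t) w hw⟩
    have hmemW : ∀ y : X, y ∈ Cfsg.inducedFunctor (G := X) W (T : Subgroup X) →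
        ∃ w : (T : Subgroup X), w ∈ W (T : Subgroup X) ∧ (w : X) = y := fun y hy => hy
    have hconjW : ∀ w ∈ W (T : Subgroup X), ∃ w' ∈ W (T : Subgroup X),
        ((w' : (T : Subgroup X)) : X) * el c d A = el c d A * w := by
      intro w hw
      obtain ⟨w', hw', he⟩ := hmemW _ ((mem_normalizer_iff.1 hg _).1 ⟨w, hw, rfl⟩)
      exact ⟨w', hw', by rw [he, inv_mul_cancel_right]; rfl⟩
    -- an element of the centre
    obtain ⟨z, hz, hz1⟩ := (bot_or_exists_ne_one _).resolve_left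
      (PGroupBasic.inf_center_ne_bot _ hW1)
    have haf0 : af z = 0 ∧ df z = 0 := by
      have h2 := congrArg Subtype.val
        (mem_center_iff.mp hz.2 ⟨el 0 1 1, hVT ⟨0, 1, rfl⟩⟩)
      have h3 := congrArg Subtype.val
        (mem_center_iff.mp hz.2 ⟨el 0 0 (upper 1), hT ⟨0, 0, 1, rfl⟩⟩)
      simp only [Subgroup.coe_mul, hf z, hmul] at h2 h3
      obtain ⟨e2, -, -⟩ := hel h2
      obtain ⟨e3, -, -⟩ := hel h3
      simp at e2 e3
      exact ⟨e2, e3⟩
    have hcz : cf z ≠ 0 := by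
      intro h
      refine hz1 (Subtype.ext ?_)
      rw [hf z, h, haf0.1, haf0.2, upper_zero, h1]
      rfl
    by_cases hall : ∀ w ∈ W (T : Subgroup X), af w = 0
    · obtain ⟨w', hw', he⟩ := hconjW z hz.1
      rw [hf w', hf z, haf0.1, haf0.2, hall w' hw', upper_zero, hmul, hmul, one_mul, mul_one] at he
      obtain ⟨-, he2, -⟩ := hel he
      simp at he2
      have hd' : df w' ≠ 0 := by
        intro h
        rw [h, zero_add] at he2
        exact mul_ne_zero hA hcz (by linear_combination -he2)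
      have h2 := hall _ (hinvW φ w' hw')
      have h3 : af (φ w') = df w' := (hcoord (φ₀ w') _ _ _ rfl).2.2
      exact hd' (h3 ▸ h2)
    · push Not at hall
      obtain ⟨w, hw, hwa⟩ := hall
      obtain ⟨w', hw', he⟩ := hconjW w hw
      rw [hf w', hf w, hmul, hmul] at he
      obtain ⟨-, -, he3⟩ := hel he
      have h10 := congrArg (fun M : SL2 (ZMod p) => M 1 0) he3
      have h11 := congrArg (fun M : SL2 (ZMod p) => M 1 1) he3
      simp [Matrix.mul_apply, Fin.sum_univ_two] at h10 h11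
      rcases h11 with h | h
      · exact hA h
      · exact hwa h
  -- the fusion
  have hc := (controls_iff_family (CfsgLib.Kinf.family_conjugacy h𝓦) (isSylowIn_top T)).1 hctl
  obtain ⟨M, hM00, hM01, hM10, hM11⟩ : ∃ M : SL2 (ZMod p),
      M 0 0 = 0 ∧ M 0 1 = -1 ∧ M 1 0 = 1 ∧ M 1 1 = 0 :=
    ⟨⟨!![0, -1; 1, 0], by simp [Matrix.det_fin_two]⟩, rfl, rfl, rfl, rfl⟩
  have hconj : el 0 0 M * el 1 0 1 * (el 0 0 M)⁻¹ = el 0 1 1 := by
    rw [mul_inv_eq_iff_eq_mul, hmul, hmul, mul_one, one_mul, hM00, hM01, hM10, hM11]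
    simp
  obtain ⟨w, hw, hag⟩ := hc (zpowers (el 1 0 1)) (el 0 0 M) (mem_top _)
    (zpowers_le.2 (hVT ⟨1, 0, rfl⟩)) (by
      rw [MonoidHom.map_zpowers, zpowers_le]
      show el 0 0 M * el 1 0 1 * (el 0 0 M)⁻¹ ∈ (T : Subgroup X)
      rw [hconj]
      exact hVT ⟨0, 1, rfl⟩)
  have hwB : w ∈ Bor := by
    clear hag
    induction hw with
    | nil => exact one_mem _
    | @cons w x _ hx ih =>
      obtain ⟨-, -, N, hN', hxN⟩ := hx
      obtain ⟨_, ⟨W, hW, rfl⟩, rfl⟩ := hN'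
      exact mul_mem (hN W hW hxN.2) ih
  obtain ⟨c, d, A, rfl, hA⟩ := hwB
  have h := hag _ (mem_zpowers _)
  rw [hconj, mul_inv_eq_iff_eq_mul, hmul, hmul, mul_one, one_mul] at h
  obtain ⟨-, h2, -⟩ := hel h
  simp [hA] at h2

end CfsgLib.SThreeFree
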