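import Cfsg.Agent.SThreeFree.Factor
import Cfsg.Agent.SThreeFree.QdConverse
import Cfsg.Agent.S2761

/-!
The centre and the elementary Thompson subgroup as functors; control in `S₄`-free groups.
-/

set_option autoImplicit false
set_option linter.unusedSectionVars false
set_option linter.style.haveILetI false

namespace CfsgLib.SThreeFree

open Subgroup CfsgLib.Functor CfsgLib.Kinf

universe u

/-- The centre. -/
def zFun : ∀ (Q : Type u) [Group Q], Subgroup Q := fun Q _ => Subgroup.center Q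

/-- The elementary Thompson subgroup. -/
def jFun : ∀ (Q : Type u) [Group Q], Subgroup Q := fun Q _ => Cfsg.thompsonSubgroup 2 Q

theorem isCharPFunctor_zFun (p : ℕ) [Fact p.Prime] : Cfsg.IsCharPFunctor.{u} p zFun.{u} := by
  refine ⟨fun Q _ _ hQ hne => ?_, fun Q R _ _ _ _ φ => ?_⟩
  · haveI := hne
    haveI := hQ.center_nontrivial
    exact (Subgroup.nontrivial_iff_ne_bot (Subgroup.center Q)).1 inferInstance
  · ext x
    constructor
    · rintro ⟨y, hy, rfl⟩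
      refine mem_center_iff.2 fun z => ?_
      obtain ⟨z, rfl⟩ := φ.surjective z
      show φ z * φ y = φ y * φ z
      rw [← map_mul, ← map_mul, mem_center_iff.1 hy z]
    · intro hx
      refine ⟨φ.symm x, mem_center_iff.2 fun z => φ.injective ?_, by simp⟩
      rw [map_mul, map_mul, MulEquiv.apply_symm_apply]
      exact mem_center_iff.1 hx (φ z)

theorem isCharPFunctor_jFun : Cfsg.IsCharPFunctor.{u} 2 jFun.{u} := by
  haveI : Fact (Nat.Prime 2) := ⟨Nat.prime_two⟩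
  refine ⟨fun Q _ _ hQ hne => ?_, fun Q R _ _ _ _ φ => Thompson.map_thompsonSubgroup φ⟩
  obtain ⟨k, hk⟩ := IsPGroup.iff_card.1 hQ
  haveI := hne
  have h1 : 1 < Nat.card Q := Finite.one_lt_card
  refine Thompson.thompsonSubgroup_ne_bot ?_
  rw [hk] at h1 ⊢
  exact dvd_pow_self 2 (by rintro rfl; simp at h1)

theorem induced_zFun {G : Type u} [Group G] (P : Subgroup G) :
    Cfsg.inducedFunctor zFun.{u} P = P ⊓ centralizer (P : Set G) := by
  ext x
  constructor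
  · rintro ⟨y, hy, rfl⟩
    exact ⟨y.2, mem_centralizer_iff.2 fun z hz =>
      congrArg Subtype.val (mem_center_iff.1 hy ⟨z, hz⟩)⟩
  · rintro ⟨hx, hc⟩
    exact ⟨⟨x, hx⟩, mem_center_iff.2 fun z => Subtype.ext (mem_centralizer_iff.1 hc z z.2), rfl⟩

/-- Control by the pair in a group without `S₄`-sections. -/
theorem ctl_pair {G : Type u} [Group G] [Finite G]
    (hfree : ¬ Cfsg.Involves (Equiv.Perm (Fin 4)) G) : Ctl 2 {zFun.{u}, jFun.{u}} G := by
  haveI : Fact (Nat.Prime 2) := ⟨Nat.prime_two⟩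
  have h𝓦 : ∀ W ∈ ({zFun.{u}, jFun.{u}} : Set (∀ (Q : Type u) [Group Q], Subgroup Q)),
      Cfsg.IsCharPFunctor.{u} 2 W := by
    rintro W (rfl | rfl)
    · exact isCharPFunctor_zFun 2
    · exact isCharPFunctor_jFun
  refine ctl_top (G := G) h𝓦 fun K R _ hC => ?_
  obtain ⟨S⟩ := (inferInstance : Nonempty (Sylow 2 (↥K ⧸ R.subgroupOf K)))
  refine ctl_pair_of_factor _ _ (isCharPFunctor_zFun 2) isCharPFunctor_jFun S fun x => ?_
  obtain ⟨c, hc, n, hn, he⟩ :=
    center_thompson_factor hC (fun h => hfree (ZJ.involves_of_section K R h)) S x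
  exact ⟨c, by rw [induced_zFun]; exact Subgroup.centralizer_le_normalizer _ hc, n, hn, he⟩

theorem not_involves_of_ctl {p : ℕ} [Fact p.Prime] {G : Type u} [Group G] [Finite G]
    {𝓦 : Set (∀ (Q : Type u) [Group Q], Subgroup Q)}
    (h𝓦 : ∀ W ∈ 𝓦, Cfsg.IsCharPFunctor.{u} p W)
    (h : ∀ (K R : Subgroup G) [(R.subgroupOf K).Normal], Ctl p 𝓦 (↥K ⧸ R.subgroupOf K)) :
    ¬ Cfsg.Involves ↥(Cfsg.qd p) G := by
  rintro ⟨K, R, hR, ⟨e⟩⟩
  exact not_ctl_qd e h𝓦 (@h K R hR)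

theorem involves_qd_two_iff {G : Type u} [Group G] :
    Cfsg.Involves ↥(Cfsg.qd 2) G ↔ Cfsg.Involves (Equiv.Perm (Fin 4)) G := by
  obtain ⟨e⟩ := Cfsg.Agent.S2761.result
  exact ⟨fun ⟨K, R, hR, ⟨f⟩⟩ => ⟨K, R, hR, ⟨f.trans e⟩⟩,
    fun ⟨K, R, hR, ⟨f⟩⟩ => ⟨K, R, hR, ⟨f.trans e.symm⟩⟩⟩

end CfsgLib.SThreeFree
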