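import Mathlib

/-!
Characteristic polynomials compared through the kernels of polynomials in the endomorphisms.
-/

set_option autoImplicit false

set_option linter.unusedSectionVars false

namespace CfsgLib.SThreeFree

open Polynomial Module

variable {K : Type*} [Field K] {W U : Type*} [AddCommGroup W] [Module K W] [FiniteDimensional K W]
  [AddCommGroup U] [Module K U] [FiniteDimensional K U]

theorem dvd_minpoly_of_dvd_charpoly (f : Module.End K W) {P : K[X]} (hP : Irreducible P)
    (h : P ∣ f.charpoly) : P ∣ minpoly K f := by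
  classical
  set b := Module.finBasis K W
  set A := LinearMap.toMatrix b b f with hA
  have hmin : minpoly K A = minpoly K f := LinearMap.minpoly_toMatrix b f
  rw [← f.charpoly_toMatrix b, ← hA] at h
  rw [← hmin]
  have := Fact.mk hP
  set L := AdjoinRoot P
  set A' := A.map (algebraMap K L)
  have hroot : IsRoot A'.charpoly (AdjoinRoot.root P) := by
    rw [show A'.charpoly = A.charpoly.map (algebraMap K L) from Matrix.charpoly_map A _]
    obtain ⟨c, hc⟩ := h
    rw [hc, Polynomial.map_mul, IsRoot.def, eval_mul]
    have : (P.map (algebraMap K L)).eval (AdjoinRoot.root P) = 0 := AdjoinRoot.isRoot_root P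
    rw [this, zero_mul]
  have hsp := Matrix.mem_spectrum_of_isRoot_charpoly hroot
  have hz : aeval A' ((minpoly K A).map (algebraMap K L)) = 0 := by
    rw [aeval_map_algebraMap]
    have := aeval_algHom_apply
      ((Algebra.ofId K L).mapMatrix (m := Fin (Module.finrank K W))) A (minpoly K A)
    rw [minpoly.aeval, map_zero] at this
    exact this
  have hmem := spectrum.subset_polynomial_aeval A' ((minpoly K A).map (algebraMap K L))
    ⟨_, hsp, rfl⟩
  rw [hz] at hmem
  rcases isEmpty_or_nonempty (Fin (Module.finrank K W)) with he | he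
  · exact absurd hsp (by simp [spectrum.of_subsingleton])
  rw [spectrum.zero_eq, Set.mem_singleton_iff] at hmem
  rw [← AdjoinRoot.mk_eq_zero, ← AdjoinRoot.aeval_eq, aeval_def, eval₂_eq_eval_map]
  exact hmem

theorem ker_aeval_invariant (f : Module.End K W) (p : K[X]) :
    ∀ x ∈ LinearMap.ker (aeval f p), f x ∈ LinearMap.ker (aeval f p) := by
  intro x hx
  rw [LinearMap.mem_ker] at hx ⊢
  have h : aeval f p * f = f * aeval f p := by
    conv_lhs => arg 2; rw [← aeval_X (R := K) f]
    conv_rhs => arg 1; rw [← aeval_X (R := K) f]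
    rw [← map_mul, ← map_mul, mul_comm]
  simpa [hx] using LinearMap.congr_fun h x

theorem coe_aeval_restrict (f : Module.End K W) {S : Submodule K W} (hS : ∀ x ∈ S, f x ∈ S)
    (p : K[X]) (x : S) : ((aeval (f.restrict hS) p) x : W) = aeval f p x := by
  induction p using Polynomial.induction_on' with
  | add p q hp hq => simp [hp, hq]
  | monomial k a =>
    simp only [aeval_monomial, Module.algebraMap_end_apply, Module.End.mul_apply,
      Submodule.coe_smul]
    congr 1
    clear a
    induction k with
    | zero => simp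
    | succ k ih => simp [pow_succ', ih]

theorem charpoly_eq_mul_of_isCompl (f : Module.End K W) {V V' : Submodule K W}
    (h : IsCompl V V') (hV : ∀ x ∈ V, f x ∈ V) (hV' : ∀ x ∈ V', f x ∈ V') :
    f.charpoly = (f.restrict hV).charpoly * (f.restrict hV').charpoly := by
  set e := Submodule.prodEquivOfIsCompl V V' h
  have hψ : (f.restrict hV).prodMap (f.restrict hV') = e.symm.conj f := by
    refine LinearMap.ext fun z => e.injective ?_
    obtain ⟨x, y⟩ := z
    rw [LinearEquiv.conj_apply, LinearMap.comp_apply, LinearMap.comp_apply, LinearEquiv.symm_symm,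
      LinearEquiv.coe_coe, LinearEquiv.coe_coe, LinearEquiv.apply_symm_apply]
    simp [e, Submodule.coe_prodEquivOfIsCompl', map_add]
  rw [← e.symm.charpoly_conj f, ← hψ, LinearMap.charpoly_prodMap]

/-- The kernel of a high power of an irreducible polynomial in `f` has dimension its degree times its
multiplicity in the characteristic polynomial. -/
theorem finrank_ker_aeval_pow (f : Module.End K W) {P q : K[X]} (hPm : P.Monic) (hP : Irreducible P)
    {m N : ℕ} (hf : f.charpoly = P ^ m * q) (hq : ¬ P ∣ q) (hN : m ≤ N) :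
    finrank K (LinearMap.ker (aeval f (P ^ N))) = m * P.natDegree := by
  have hco : IsCoprime (P ^ N) q := ((hP.coprime_iff_not_dvd).2 hq).pow_left
  set V := LinearMap.ker (aeval f (P ^ N))
  set V' := LinearMap.ker (aeval f q)
  have hVV : IsCompl V V' := by
    refine ⟨Polynomial.disjoint_ker_aeval_of_isCoprime f hco, codisjoint_iff.2 ?_⟩
    rw [Polynomial.sup_ker_aeval_eq_ker_aeval_mul_of_coprime f hco, eq_top_iff]
    intro x _
    rw [LinearMap.mem_ker, show P ^ N * q = P ^ (N - m) * f.charpoly by
      rw [hf, ← mul_assoc, ← pow_add, Nat.sub_add_cancel hN], map_mul,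
      LinearMap.aeval_self_charpoly, mul_zero, LinearMap.zero_apply]
  set g := f.restrict (ker_aeval_invariant f (P ^ N))
  set g' := f.restrict (ker_aeval_invariant f q)
  have hprod : f.charpoly = g.charpoly * g'.charpoly :=
    charpoly_eq_mul_of_isCompl f hVV (ker_aeval_invariant f _) (ker_aeval_invariant f _)
  have hmg : minpoly K g ∣ P ^ N := minpoly.dvd _ _ (LinearMap.ext fun x => Subtype.ext (by
    rw [coe_aeval_restrict]; simpa using LinearMap.mem_ker.1 x.2))
  have hmg' : minpoly K g' ∣ q := minpoly.dvd _ _ (LinearMap.ext fun x => Subtype.ext (by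
    rw [coe_aeval_restrict]; simpa using LinearMap.mem_ker.1 x.2))
  have hP' : ¬ P ∣ g'.charpoly := fun h => hq ((dvd_minpoly_of_dvd_charpoly g' hP h).trans hmg')
  have hfac : ∀ R : K[X], Irreducible R → R ∣ g.charpoly → Associated R P := fun R hR h =>
    hR.associated_of_dvd hP (hR.prime.dvd_of_dvd_pow
      ((dvd_minpoly_of_dvd_charpoly g hR h).trans hmg))
  have hPg : P ^ m ∣ g.charpoly :=
    (((hP.coprime_iff_not_dvd).2 hP').pow_left).dvd_of_dvd_mul_right
      (hprod ▸ hf ▸ dvd_mul_right _ _)
  obtain ⟨s, hs⟩ := hPg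
  have hsq : s * g'.charpoly = q := by
    refine mul_left_cancel₀ (pow_ne_zero m hP.ne_zero) ?_
    rw [← mul_assoc, ← hs, ← hprod, hf]
  have hsm : s.Monic := (hPm.pow m).of_mul_monic_left (hs ▸ g.charpoly_monic)
  have hs1 : s = 1 := by
    refine hsm.eq_one_of_isUnit ?_
    by_contra hu
    obtain ⟨R, hR, hRs⟩ := WfDvdMonoid.exists_irreducible_factor hu hsm.ne_zero
    exact hq (((hfac R hR (hs ▸ hRs.mul_left _)).dvd_iff_dvd_left).1
      (hRs.trans (hsq ▸ dvd_mul_right _ _)))
  rw [← g.charpoly_natDegree, hs, hs1, mul_one, hPm.natDegree_pow]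

/-- Smaller kernels for all polynomials give a dividing characteristic polynomial. -/
theorem charpoly_dvd (f : Module.End K W) (g : Module.End K U)
    (h : ∀ p : K[X], finrank K (LinearMap.ker (aeval g p)) ≤
      finrank K (LinearMap.ker (aeval f p))) :
    g.charpoly ∣ f.charpoly := by
  classical
  suffices ∀ a : K[X], a ∣ g.charpoly → a ∣ f.charpoly from this _ dvd_rfl
  intro a
  induction a using UniqueFactorizationMonoid.induction_on_coprime with
  | h0 => exact fun h0 => absurd (zero_dvd_iff.1 h0) g.charpoly_monic.ne_zero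
  | h1 hu => exact fun _ => hu.dvd
  | hcp hxy hx hy =>
    exact fun hd => hxy.mul_dvd (hx ((dvd_mul_right _ _).trans hd))
      (hy ((dvd_mul_left _ _).trans hd))
  | hpr i hp =>
    rename_i R
    intro hd
    set P := normalize R
    have hPm : P.Monic := Polynomial.monic_normalize hp.ne_zero
    have hPi : Irreducible P := ((normalize_associated R).symm.irreducible hp.irreducible)
    have hass : Associated (R ^ i) (P ^ i) := (normalize_associated R).symm.pow_pow
    rw [hass.dvd_iff_dvd_left] at hd ⊢
    obtain ⟨mg, qg, hqg, hg⟩ := WfDvdMonoid.max_power_factor g.charpoly_monic.ne_zero hPi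
    obtain ⟨mf, qf, hqf, hf⟩ := WfDvdMonoid.max_power_factor f.charpoly_monic.ne_zero hPi
    have h1 := h (P ^ (mg + mf))
    rw [finrank_ker_aeval_pow g hPm hPi hg hqg (by omega),
      finrank_ker_aeval_pow f hPm hPi hf hqf (by omega)] at h1
    have hle : mg ≤ mf := Nat.le_of_mul_le_mul_right h1 hPi.natDegree_pos
    have hi : i ≤ mg := by
      rw [hg] at hd
      have := (((hPi.coprime_iff_not_dvd).2 hqg).pow_left).dvd_of_dvd_mul_right hd
      exact (pow_dvd_pow_iff hPi.ne_zero hPi.not_isUnit).1 this
    exact (pow_dvd_pow P (hi.trans hle)).trans (hf ▸ dvd_mul_right _ _)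

end CfsgLib.SThreeFree
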