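import Cfsg.Agent.SThreeFree.Main
import Cfsg.Agent.PMinFF.Bridge
import Cfsg.Agent.ZJ.SymFourSection
import Cfsg.Agent.PLocal.Thompson
import Cfsg.Agent.ZJ.ZKinds
import Cfsg.Agent.LocalB.CharP

/-!
The factorization `G = C(Z(S)) N(Jₑ(S))` for groups of characteristic 2 without `S₄`-sections.
-/

set_option autoImplicit false
set_option linter.unusedSectionVars false
set_option linter.unusedVariables false
set_option linter.style.haveILetI false

namespace CfsgLib.SThreeFree

open Subgroup CfsgLib.Thompson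

universe u

variable {G : Type u} [Group G] [Finite G]

theorem not_inverts_of_free (hchar : centralizer (Cfsg.pCore 2 G : Set G) ≤ Cfsg.pCore 2 G)
    (hfree : ¬ Cfsg.Involves (Equiv.Perm (Fin 4)) G) : ¬ CfsgLib.ZJ.Inverts 3 G := by
  haveI : Fact (Nat.Prime 2) := ⟨Nat.prime_two⟩
  haveI hn : (Cfsg.pCore 2 G).Normal := CfsgLib.Solvable.pCore_normal 2
  rintro ⟨g, x, hx1, ⟨k, hk⟩, hgx⟩
  set T := Cfsg.pCore 2 G
  refine hfree (CfsgLib.ZJ.involves_s4_of_action T (CfsgLib.Solvable.isPGroup_pCore 2)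
    ⟨QuotientGroup.mk' _ g, QuotientGroup.mk' _ x, fun he => hx1 ?_,
      ⟨k, by rw [← map_pow, hk, map_one]⟩, by rw [← map_inv, ← map_mul, ← map_mul, hgx, map_inv]⟩)
  exact CfsgLib.LocalB.eq_one_of_orderOf_coprime (CfsgLib.Solvable.isPGroup_pCore 2)
    (hchar ((QuotientGroup.eq_one_iff x).1 he))
    (Nat.Coprime.coprime_dvd_left (orderOf_dvd_of_pow_eq_one hk) (Nat.Coprime.pow_left _ (by norm_num)))

theorem exists_hom_module {X : Type u} [Group X] [Finite X] {G' : Type u} [Group G'] [Finite G']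
    (f : X →* G') (V : Subgroup G') (hV : IsMulCommutative V)
    (hn : f.range ≤ normalizer (V : Set G')) :
    ∃ (W : Type u) (_ : AddCommGroup W) (_ : Finite W) (_ : DistribMulAction X W) (e : W ≃ V),
      (∀ x y, e (x + y) = e x * e y) ∧
        ∀ (g : X) (x : W), (e (g • x) : G') = f g * (e x : G') * (f g)⁻¹ := by
  obtain ⟨W, iW, iF, act, e, hadd, hact⟩ := CfsgLib.PMinFF.exists_conj_module V f.range hV hn
  letI := iW
  letI := act
  exact ⟨W, iW, iF, DistribMulAction.compHom W f.rangeRestrict, e, hadd,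
    fun g x => hact (f.rangeRestrict g) x⟩

theorem card_mul_relIndex_of_le {A B : Subgroup G} (h : A ≤ B) :
    Nat.card A * A.relIndex B = Nat.card B := card_mul_relIndex h

/-- Elements of odd order acting trivially on the factors of a series act trivially. -/
theorem fix_of_series {W : Subgroup G} (hW : IsPGroup 2 W) {k : G} {m : ℕ} (hm : Odd m)
    (hk : k ^ m = 1) {w : G} (hw : w ∈ W) (hc : k * w * k⁻¹ * w⁻¹ ∈ center G)
    (hcW : k * w * k⁻¹ * w⁻¹ ∈ W) : k * w * k⁻¹ = w := by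
  set c := k * w * k⁻¹ * w⁻¹ with hcdef
  have hstep : k * w * k⁻¹ = c * w := by rw [hcdef, inv_mul_cancel_right]
  have hkc : k * c * k⁻¹ = c := by
    rw [mem_center_iff.1 hc k, mul_inv_cancel_right]
  have hpow : ∀ i : ℕ, k ^ i * w * (k ^ i)⁻¹ = c ^ i * w := by
    intro i
    induction i with
    | zero => simp
    | succ i ih =>
      have h1 : k ^ (i + 1) * w * (k ^ (i + 1))⁻¹ = k * (k ^ i * w * (k ^ i)⁻¹) * k⁻¹ := by
        rw [pow_succ']; group
      rw [h1, ih, show k * (c ^ i * w) * k⁻¹ = (k * c * k⁻¹) ^ i * (k * w * k⁻¹) by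
        rw [conj_pow]; group, hkc, hstep, ← mul_assoc, ← pow_succ]
  have h := hpow m
  rw [hk, inv_one, mul_one, one_mul, right_eq_mul] at h
  haveI : Fact (Nat.Prime 2) := ⟨Nat.prime_two⟩
  have hc1 : c = 1 := CfsgLib.LocalB.eq_one_of_orderOf_coprime hW hcW
    (Nat.Coprime.coprime_dvd_left (orderOf_dvd_of_pow_eq_one h) (Nat.coprime_two_right.2 hm))
  rw [hstep, hc1, one_mul]

/-- One step of the factorization. -/
theorem factor_step (hchar : centralizer (Cfsg.pCore 2 G : Set G) ≤ Cfsg.pCore 2 G)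
    (hfree : ¬ CfsgLib.ZJ.Inverts 3 G) (S : Sylow 2 G) (Z₁ : Subgroup G)
    (hZ₁ : Z₁ ≤ (S : Subgroup G) ⊓ centralizer ((S : Subgroup G) : Set G))
    (hsq : ∀ z ∈ Z₁, z * z ∈ center G) (x : G) :
    ∃ c ∈ centralizer (Z₁ : Set G),
      ∃ n ∈ normalizer (Cfsg.thompsonSubgroupOf 2 (S : Subgroup G) : Set G), x = c * n := by
  classical
  haveI : Fact (Nat.Prime 2) := ⟨Nat.prime_two⟩
  haveI : Fact (Nat.Prime 3) := ⟨Nat.prime_three⟩
  set Q := Cfsg.pCore 2 G
  haveI hQn : Q.Normal := CfsgLib.Solvable.pCore_normal 2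
  have hQS : Q ≤ (S : Subgroup G) := CfsgLib.Fitting.pCore_le_sylow S
  have hZQ : Z₁ ≤ Q ⊓ centralizer (Q : Set G) := fun z hz => by
    have h1 : z ∈ centralizer (Q : Set G) := mem_centralizer_iff.2 fun q hq =>
      mem_centralizer_iff.1 (hZ₁ hz).2 q (hQS hq)
    exact ⟨hchar h1, h1⟩
  set W := normalClosure (Z₁ : Set G) with hW
  haveI hWn : W.Normal := normalClosure_normal
  have hWQ : W ≤ Q ⊓ centralizer (Q : Set G) := normalClosure_le_normal hZQ
  have hWc : ∀ a ∈ W, ∀ b ∈ W, a * b = b * a := fun a ha b hb =>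
    mem_centralizer_iff.1 (hWQ hb).2 a (hWQ ha).1
  have hW2 : IsPGroup 2 W := (CfsgLib.Solvable.isPGroup_pCore 2).to_le (hWQ.trans inf_le_left)
  have hZW : Z₁ ≤ W := subset_normalClosure
  set W₀ := W ⊓ center G with hW₀
  haveI hW₀n : W₀.Normal := inferInstance
  set q := QuotientGroup.mk' W₀ with hq
  set Wb := W.map q with hWb
  have hWbc : IsMulCommutative Wb := ⟨⟨by
    rintro ⟨_, a, ha, rfl⟩ ⟨_, b, hb, rfl⟩
    exact Subtype.ext (show q a * q b = q b * q a by rw [← map_mul, hWc a ha b hb, map_mul])⟩⟩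
  haveI : Wb.Normal := hWn.map q (QuotientGroup.mk'_surjective W₀)
  have hsqW : ∀ w ∈ W, w * w ∈ center G := by
    intro w hw
    rw [hW, normalClosure] at hw
    refine (closure_induction (p := fun w _ => w ∈ W ∧ w * w ∈ center G) ?_
      ⟨one_mem _, by simp [one_mem]⟩ ?_ ?_ hw).2
    · intro y hy
      obtain ⟨z, hz, hy'⟩ := Group.mem_conjugatesOfSet_iff.1 hy
      obtain ⟨g, rfl⟩ := isConj_iff.1 hy'
      refine ⟨hWn.conj_mem z (hZW hz) g, ?_⟩
      rw [show g * z * g⁻¹ * (g * z * g⁻¹) = g * (z * z) * g⁻¹ by group,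
        mem_center_iff.1 (hsq z hz) g, mul_inv_cancel_right]
      exact hsq z hz
    · rintro a b _ _ ⟨ha, ha2⟩ ⟨hb, hb2⟩
      refine ⟨W.mul_mem ha hb, ?_⟩
      rw [show a * b * (a * b) = a * (b * a) * b by group, hWc b hb a ha,
        show a * (a * b) * b = (a * a) * (b * b) by group]
      exact (center G).mul_mem ha2 hb2
    · rintro a _ ⟨ha, ha2⟩
      refine ⟨W.inv_mem ha, ?_⟩
      rw [← mul_inv_rev]
      exact (center G).inv_mem ha2
  obtain ⟨M, iM, iF, act, e, hadd, hact⟩ := exists_hom_module q Wb hWbc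
    (by rw [normalizer_eq_top (H := Wb)]; exact le_top)
  letI := iM
  letI := act
  have he0 : e 0 = 1 := by
    have h1 := hadd 0 0
    rw [add_zero] at h1
    exact left_eq_mul.1 h1
  have hexp : ∀ v : M, 2 • v = 0 := by
    intro v
    refine e.injective (Subtype.ext ?_)
    rw [two_nsmul, hadd, he0, Subgroup.coe_mul, OneMemClass.coe_one]
    obtain ⟨w, hw, he⟩ := (e v).2
    rw [← he, ← map_mul]
    exact (QuotientGroup.eq_one_iff _).2 ⟨W.mul_mem hw hw, hsqW w hw⟩
  -- the image of `Z₁`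
  set Y : AddSubgroup M :=
    { carrier := {v | (e v : G ⧸ W₀) ∈ Z₁.map q}
      zero_mem' := by
        show (e 0 : G ⧸ W₀) ∈ Z₁.map q
        rw [he0]; exact one_mem _
      add_mem' := fun {a b} ha hb => by
        show (e (a + b) : G ⧸ W₀) ∈ Z₁.map q
        rw [hadd]; exact mul_mem ha hb
      neg_mem' := fun {a} ha => by
        show (e (-a) : G ⧸ W₀) ∈ Z₁.map q
        rwa [neg_eq_of_add_eq_zero_left (show a + a = 0 by rw [← two_nsmul]; exact hexp a)] } with hY
  have hYfix : (S : Subgroup G) ≤ ptw G Y := by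
    intro s hs v hv
    refine e.injective (Subtype.ext ?_)
    obtain ⟨z, hz, he⟩ := hv
    rw [hact, ← he, ← map_inv, ← map_mul, ← map_mul, mem_centralizer_iff.1 (hZ₁ hz).2 s hs,
      mul_inv_cancel_right]
  have hgood := good_genIn hexp hfree S (Y := Y)
    (fun s hs v hv => by rw [hYfix hs v hv]; exact hv) (good_of_fixed hYfix)
  -- `Y` generates
  have hgen : genIn (⊤ : Subgroup G) Y = ⊤ := by
    set U := genIn (⊤ : Subgroup G) Y
    let U' : Subgroup (G ⧸ W₀) :=
      { carrier := {u | ∃ v ∈ U, (e v : G ⧸ W₀) = u}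
        one_mem' := ⟨0, U.zero_mem, by rw [he0]; rfl⟩
        mul_mem' := by
          rintro _ _ ⟨a, ha, rfl⟩ ⟨b, hb, rfl⟩
          exact ⟨a + b, U.add_mem ha hb, by rw [hadd]; rfl⟩
        inv_mem' := by
          rintro _ ⟨a, ha, rfl⟩
          refine ⟨-a, U.neg_mem ha, ?_⟩
          rw [← InvMemClass.coe_inv]
          congr 1
          refine eq_inv_of_mul_eq_one_left ?_
          rw [← hadd, neg_add_cancel, he0] }
    have hle : Wb ≤ U' := by
      rw [hWb, map_le_iff_le_comap, hW, normalClosure, closure_le]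
      intro y hy
      obtain ⟨z, hz, hy'⟩ := Group.mem_conjugatesOfSet_iff.1 hy
      obtain ⟨g, rfl⟩ := isConj_iff.1 hy'
      set v := e.symm ⟨q z, mem_map_of_mem q (hZW hz)⟩ with hv
      have hev : (e v : G ⧸ W₀) = q z := by rw [hv, Equiv.apply_symm_apply]
      have hvY : v ∈ Y := show (e v : G ⧸ W₀) ∈ Z₁.map q from hev ▸ mem_map_of_mem q hz
      exact ⟨g • v, img_le_genIn Y (mem_top g) (smul_mem_img hvY),
        by rw [hact, hev, ← map_mul, ← map_inv, ← map_mul]⟩
    refine eq_top_iff.2 fun v _ => ?_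
    obtain ⟨u, hu, he⟩ := hle (e v).2
    rwa [← e.injective (Subtype.ext he)]
  rw [hgen] at hgood
  -- the kernel centralizes `W`
  set K := ptw G (⊤ : AddSubgroup M) with hK
  have hKmem : ∀ k ∈ K, ∀ w ∈ W, k * w * k⁻¹ * w⁻¹ ∈ W₀ := by
    intro k hk w hw
    have h := congrArg (fun v => (e v : G ⧸ W₀))
      (hk (e.symm ⟨q w, mem_map_of_mem q hw⟩) trivial)
    simp only [hact, Equiv.apply_symm_apply] at h
    rw [← map_inv, ← map_mul, ← map_mul] at h
    refine (QuotientGroup.eq_one_iff _).1 ?_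
    show q (k * w * k⁻¹ * w⁻¹) = 1
    rw [map_mul, h, map_inv, mul_inv_cancel]
  haveI hKn : K.Normal := ⟨fun k hk g v _ => by
    rw [mul_smul, mul_smul, hk _ trivial, smul_inv_smul]⟩
  set C := centralizer (W : Set G) with hC
  haveI hCn : C.Normal := inferInstance
  have hodd : ∀ k ∈ K, ∀ m : ℕ, Odd m → k ^ m = 1 → k ∈ C := by
    intro k hk m hm hkm
    refine mem_centralizer_iff.2 fun w hw => ?_
    have h := hKmem k hk w hw
    have h' := fix_of_series hW2 hm hkm hw h.2 h.1
    exact (mul_inv_eq_iff_eq_mul.1 h').symm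
  have hKC : K ≤ C := by
    have hSK : IsPGroup 2 ↥((S : Subgroup G) ⊓ K) := S.2.to_le inf_le_left
    have hstep : K ≤ ((S : Subgroup G) ⊓ K) ⊔ (C ⊓ K) := by
      set P := ((S : Subgroup G) ⊓ K) ⊔ (C ⊓ K)
      refine relIndex_eq_one.1 ?_
      have h1 : P.relIndex K ∣ ((S : Subgroup G) ⊓ K).relIndex K :=
        relIndex_dvd_of_le_left K le_sup_left
      have h2 : ¬ 2 ∣ ((S : Subgroup G) ⊓ K).relIndex K := by
        rw [inf_relIndex_right]
        exact fun hd => S.not_dvd_index (hd.trans (CfsgLib.PLocalCore.relIndex_dvd_index_of_normal_right (S : Subgroup G) K))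
      have h3 : P.relIndex K ∣ (C ⊓ K).relIndex K := relIndex_dvd_of_le_left K le_sup_right
      by_contra hne
      obtain ⟨r, hr, hrd⟩ := Nat.exists_prime_and_dvd hne
      have hr2 : r ≠ 2 := fun h => h2 (by subst h; exact hrd.trans h1)
      rw [inf_relIndex_right] at h3
      haveI : Fact r.Prime := ⟨hr⟩
      obtain ⟨y, hy⟩ := exists_prime_orderOf_dvd_card' (G := ↥K ⧸ C.subgroupOf K) r
        (hrd.trans h3)
      obtain ⟨k, rfl⟩ := QuotientGroup.mk_surjective y
      set o := orderOf k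
      have hodd' : Odd (o / 2 ^ o.factorization 2) :=
        (Nat.coprime_two_left).1 (Nat.coprime_ordCompl Nat.prime_two (orderOf_pos k).ne')
      set k' := k ^ 2 ^ o.factorization 2 with hk'
      have hk'1 : k' ^ (o / 2 ^ o.factorization 2) = 1 := by
        rw [hk', ← pow_mul, Nat.mul_div_cancel' (Nat.ordProj_dvd o 2), pow_orderOf_eq_one]
      have hk'C : (k' : G) ∈ C := hodd k' k'.2 _ hodd' (by
        rw [← SubmonoidClass.coe_pow, hk'1, OneMemClass.coe_one])
      have h4 : (QuotientGroup.mk k : ↥K ⧸ C.subgroupOf K) ^ 2 ^ o.factorization 2 = 1 := by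
        rw [← QuotientGroup.mk_pow]
        exact (QuotientGroup.eq_one_iff _).2 hk'C
      have h5 := orderOf_dvd_of_pow_eq_one h4
      rw [hy] at h5
      exact hr2 ((Nat.prime_dvd_prime_iff_eq hr Nat.prime_two).1 (hr.dvd_of_dvd_pow h5))
    have hfixZ : K ≤ centralizer (Z₁ : Set G) := by
      refine hstep.trans (sup_le (fun s hs => mem_centralizer_iff.2 fun z hz => ?_)
        (inf_le_left.trans (centralizer_le hZW)))
      exact (mem_centralizer_iff.1 (hZ₁ hz).2 s hs.1).symm
    intro k hk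
    have hle : W ≤ centralizer ({k} : Set G) := by
      rw [hW, normalClosure, closure_le]
      intro y hy
      obtain ⟨z, hz, hy'⟩ := Group.mem_conjugatesOfSet_iff.1 hy
      obtain ⟨g, rfl⟩ := isConj_iff.1 hy'
      refine mem_centralizer_singleton_iff.2 ?_
      have h := mem_centralizer_iff.1 (hfixZ (hKn.conj_mem k hk g⁻¹)) z hz
      have h' := congrArg (fun t => g * t * g⁻¹) h
      simpa [mul_assoc] using h'.symm.symm
    exact mem_centralizer_iff.2 fun w hw => (mem_centralizer_singleton_iff.1 (hle hw))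
  -- largest elementary abelian subgroups centralize `W`
  have hJC : Cfsg.thompsonSubgroupOf 2 (S : Subgroup G) ≤ C := by
    rw [thompsonSubgroupOf_eq]
    refine sSup_le fun E hE => ?_
    by_contra hEC
    have hEK : ¬ E ≤ K := fun h => hEC (h.trans hKC)
    have h := hgood E hE.1 (fun b hb v _ => by
      rw [smul_smul, ← pow_two, hE.2.1.2 b hb, one_smul]) hEK
    have h1 : (centralizer (W : Set G)).relIndex E ≤ K.relIndex E :=
      relIndex_le_of_le_left hKC index_ne_zero_of_finite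
    rw [AddSubgroup.relIndex_top_right] at h
    set F := W ⊓ centralizer (E : Set G) with hF
    have h2 : (CfsgLib.OffGen.fix M E).index ≤ F.relIndex W := by
      have hinj : Nat.card (F.map q) ≤ Nat.card (CfsgLib.OffGen.fix M E) := by
        have hmem : ∀ u : F.map q, (u : G ⧸ W₀) ∈ Wb := fun u => map_mono inf_le_left u.2
        refine Nat.card_le_card_of_injective (fun u => ⟨e.symm ⟨u, hmem u⟩, fun b hb => ?_⟩)
          fun a b hab => Subtype.ext (congrArg Subtype.val (e.symm.injective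
            (congrArg Subtype.val hab)) :)
        obtain ⟨w, hw, hwu⟩ := u.2
        refine e.injective (Subtype.ext ?_)
        rw [hact, Equiv.apply_symm_apply]
        show q b * (u : G ⧸ W₀) * (q b)⁻¹ = u
        rw [← hwu, ← map_inv, ← map_mul, ← map_mul, mem_centralizer_iff.1 hw.2 b hb,
          mul_inv_cancel_right]
      have hM : Nat.card M = Nat.card Wb := Nat.card_congr e
      have h3 : (F.map q).relIndex Wb ≤ F.relIndex W := by
        rw [hWb, ← relIndex_comap]
        exact relIndex_le_of_le_left (le_comap_map q F) index_ne_zero_of_finite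
      have h4 := card_mul_relIndex (H := G ⧸ W₀) (map_mono inf_le_left : F.map q ≤ Wb)
      rw [← hM, ← (CfsgLib.OffGen.fix M E).card_mul_index] at h4
      refine le_trans ?_ h3
      refine Nat.le_of_mul_le_mul_left ?_ (Nat.card_pos (α := CfsgLib.OffGen.fix M E))
      rw [← h4]
      exact Nat.mul_le_mul_right _ hinj
    let D : Subgroup G :=
      { carrier := {w | w ∈ W ∧ w * w = 1}
        one_mem' := ⟨one_mem _, one_mul 1⟩
        mul_mem' := fun {a b} ha hb => ⟨W.mul_mem ha.1 hb.1, by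
          rw [show a * b * (a * b) = a * (b * a) * b by group, hWc b hb.1 a ha.1,
            show a * (a * b) * b = (a * a) * (b * b) by group, ha.2, hb.2, one_mul]⟩
        inv_mem' := fun {a} ha => ⟨W.inv_mem ha.1, by rw [← mul_inv_rev, ha.2, inv_one]⟩ }
    have hDW : D ≤ W := fun w hw => hw.1
    have hDel : Cfsg.IsElementaryAbelian 2 D :=
      ⟨⟨⟨fun a b => Subtype.ext (hWc _ a.2.1 _ b.2.1)⟩⟩, fun a ha => by rw [pow_two, ha.2]⟩
    have hFn : F ≤ normalizer (D : Set G) := fun f hf => mem_normalizer_fintype fun d hd => by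
      rw [hWc f hf.1 d hd.1, mul_inv_cancel_right]; exact hd
    have hWFD : F ⊔ D = W := by
      refine le_antisymm (sup_le inf_le_left hDW) ?_
      have hZF : Z₁ ≤ F := fun z hz => ⟨hZW hz, mem_centralizer_iff.2 fun b hb =>
        mem_centralizer_iff.1 (hZ₁ hz).2 b (hE.1 hb)⟩
      rw [hW, normalClosure, closure_le]
      intro y hy
      obtain ⟨z, hz, hy'⟩ := Group.mem_conjugatesOfSet_iff.1 hy
      obtain ⟨g, rfl⟩ := isConj_iff.1 hy'
      have hd : g * z * g⁻¹ * z⁻¹ ∈ D := by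
        refine ⟨W.mul_mem (hWn.conj_mem z (hZW hz) g) (W.inv_mem (hZW hz)), ?_⟩
        have hcomm := hWc _ (W.inv_mem (hZW hz)) _ (hWn.conj_mem z (hZW hz) g)
        calc g * z * g⁻¹ * z⁻¹ * (g * z * g⁻¹ * z⁻¹)
            = g * z * g⁻¹ * (z⁻¹ * (g * z * g⁻¹)) * z⁻¹ := by group
          _ = g * z * g⁻¹ * (g * z * g⁻¹ * z⁻¹) * z⁻¹ := by rw [hcomm]
          _ = g * (z * z) * g⁻¹ * (z * z)⁻¹ := by group
          _ = 1 := by
            rw [mem_center_iff.1 (hsq z hz) g, mul_inv_cancel_right, mul_inv_cancel]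
      have := mul_mem (mem_sup_right (S := F) hd) (mem_sup_left (T := D) (hZF hz))
      rwa [inv_mul_cancel_right] at this
    have h5 := CfsgLib.Solvable.card_sup_mul_card_inf hFn
    rw [hWFD] at h5
    have h6 : F.relIndex W = (D ⊓ F).relIndex D := by
      refine Nat.eq_of_mul_eq_mul_left
        (Nat.mul_pos (Nat.card_pos (α := F)) (Nat.card_pos (α := ↥(D ⊓ F)))) ?_
      calc Nat.card F * Nat.card ↥(D ⊓ F) * F.relIndex W
          = (Nat.card F * F.relIndex W) * Nat.card ↥(F ⊓ D) := by rw [inf_comm]; ring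
        _ = Nat.card F * Nat.card D := by rw [card_mul_relIndex inf_le_left, h5]
        _ = Nat.card F * (Nat.card ↥(D ⊓ F) * (D ⊓ F).relIndex D) := by
          rw [card_mul_relIndex inf_le_left]
        _ = _ := by ring
    set E₀ := E ⊓ C with hE₀
    have hE₀c : E₀ ≤ centralizer (D : Set G) := fun a ha => centralizer_le hDW ha.2
    have hBel := elab_sup (elab_mono hE.2.1 (inf_le_left : E₀ ≤ E)) hDel hE₀c
    have hBS : E₀ ⊔ D ≤ (S : Subgroup G) :=
      sup_le (inf_le_left.trans hE.1) (hDW.trans (hWQ.trans (inf_le_left.trans hQS)))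
    have h7 := hE.2.2 _ hBS hBel
    have h8 := CfsgLib.Solvable.card_sup_mul_card_inf (A := E₀) (K := D)
      (fun a ha => mem_normalizer_fintype fun d hd => by
        rw [← mem_centralizer_iff.1 (hE₀c ha) d hd, mul_inv_cancel_right]; exact hd)
    have h9 : Nat.card ↥(E₀ ⊓ D) ≤ Nat.card ↥(D ⊓ F) :=
      Nat.le_of_dvd Nat.card_pos (Subgroup.card_dvd_of_le (le_inf inf_le_right
        (le_inf (inf_le_right.trans hDW)
          ((inf_le_left.trans inf_le_left).trans (elab_le_centralizer hE.2.1)))))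
    have h10 : (D ⊓ F).relIndex D ≤ E₀.relIndex E := by
      refine Nat.le_of_mul_le_mul_left ?_
        (Nat.mul_pos (Nat.card_pos (α := E₀)) (Nat.card_pos (α := ↥(D ⊓ F))))
      calc Nat.card E₀ * Nat.card ↥(D ⊓ F) * (D ⊓ F).relIndex D
          = Nat.card E₀ * Nat.card D := by rw [mul_assoc, card_mul_relIndex inf_le_left]
        _ = Nat.card ↥(E₀ ⊔ D) * Nat.card ↥(E₀ ⊓ D) := h8.symm
        _ ≤ Nat.card E * Nat.card ↥(D ⊓ F) := Nat.mul_le_mul h7 h9
        _ = _ := by rw [← card_mul_relIndex (inf_le_left : E₀ ≤ E)]; ring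
    have h11 : E₀.relIndex E = C.relIndex E := by rw [hE₀, inf_comm, inf_relIndex_right]
    rw [← hK] at h
    rw [← hC] at h1
    omega
  -- Frattini
  have hidx : ¬ 2 ∣ (((S : Subgroup G) ⊓ C).subgroupOf C).index := by
    change ¬ 2 ∣ ((S : Subgroup G) ⊓ C).relIndex C
    rw [inf_relIndex_right]
    exact fun hd => S.not_dvd_index (hd.trans (CfsgLib.PLocalCore.relIndex_dvd_index_of_normal_right (S : Subgroup G) C))
  have hpg : IsPGroup 2 (((S : Subgroup G) ⊓ C).subgroupOf C) :=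
    (S.2.to_le inf_le_left).comap_subtype
  have h1 := Sylow.normalizer_sup_eq_top (hpg.toSylow hidx)
  rw [show (hpg.toSylow hidx : Subgroup C) = ((S : Subgroup G) ⊓ C).subgroupOf C from rfl,
    subgroupOf_map_subtype, inf_assoc, inf_idem] at h1
  obtain ⟨c, hc, n, hn, rfl⟩ := mem_sup_of_normal_left.1
    (show x ∈ C ⊔ normalizer (((S : Subgroup G) ⊓ C : Subgroup G) : Set G) by
      rw [sup_comm, h1]; exact mem_top x)
  refine ⟨c, centralizer_le hZW hc, n, ?_, rfl⟩
  have hJ : Cfsg.thompsonSubgroupOf 2 ((S : Subgroup G) ⊓ C) =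
      Cfsg.thompsonSubgroupOf 2 (S : Subgroup G) := by
    rw [thompsonSubgroupOf_eq, thompsonSubgroupOf_eq]
    have hm : ∀ E ∈ maxIn 2 (S : Subgroup G), E ≤ (S : Subgroup G) ⊓ C := fun E hE =>
      le_inf hE.1 ((le_sSup hE).trans (thompsonSubgroupOf_eq (S : Subgroup G) ▸ hJC))
    obtain ⟨E, hE⟩ := exists_maxIn (p := 2) (S : Subgroup G)
    refine le_antisymm (sSup_le fun B hB => le_sSup ⟨hB.1.trans inf_le_left, hB.2.1,
      fun B' hB' hB'e => (hE.2.2 B' hB' hB'e).trans (hB.2.2 E (hm E hE) hE.2.1)⟩)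
      (sSup_le fun B hB => le_sSup ⟨hm B hB, hB.2.1,
        fun B' hB' hB'e => hB.2.2 B' (hB'.trans inf_le_left) hB'e⟩)
  rw [← hJ]
  exact normalizer_le_normalizer_thompsonSubgroupOf _ hn

theorem le_pCore_subgroup {X : Subgroup G} (hX : Cfsg.pCore 2 G ≤ X) :
    (Cfsg.pCore 2 G).subgroupOf X ≤ Cfsg.pCore 2 X := by
  haveI := CfsgLib.Solvable.pCore_normal 2 (G := G)
  exact CfsgLib.Solvable.le_pCore 2 inferInstance (CfsgLib.Solvable.isPGroup_pCore 2).comap_subtype

theorem charP_subgroup (hchar : centralizer (Cfsg.pCore 2 G : Set G) ≤ Cfsg.pCore 2 G)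
    {X : Subgroup G} (hX : Cfsg.pCore 2 G ≤ X) :
    centralizer (Cfsg.pCore 2 X : Set X) ≤ Cfsg.pCore 2 X := by
  intro x hx
  refine le_pCore_subgroup hX (mem_subgroupOf.2 (hchar (mem_centralizer_iff.2 fun q hq => ?_)))
  exact congrArg Subtype.val (mem_centralizer_iff.1 hx ⟨q, hX hq⟩
    (le_pCore_subgroup hX (mem_subgroupOf.2 hq)))

theorem thompsonSubgroupOf_map {H : Type u} [Group H] (f : H →* G) (hf : Function.Injective f)
    (U : Subgroup H) :
    Cfsg.thompsonSubgroupOf 2 (U.map f) = (Cfsg.thompsonSubgroupOf 2 U).map f := by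
  rw [thompsonSubgroupOf_eq, thompsonSubgroupOf_eq, CfsgLib.ZJ.maxIn_map_hom f hf, sSup_image,
    sSup_eq_iSup, Subgroup.map_iSup]
  simp only [Subgroup.map_iSup]

/-- The `2 ^ j`-th powers in the centre of `S`. -/
def powCenter (S : Subgroup G) (j : ℕ) : Subgroup G where
  carrier := {z | ∃ w ∈ S ⊓ centralizer (S : Set G), w ^ 2 ^ j = z}
  one_mem' := ⟨1, one_mem _, one_pow _⟩
  mul_mem' := by
    rintro _ _ ⟨a, ha, rfl⟩ ⟨b, hb, rfl⟩
    exact ⟨a * b, mul_mem ha hb,
      Commute.mul_pow (show Commute a b from mem_centralizer_iff.1 hb.2 a ha.1) _⟩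
  inv_mem' := by
    rintro _ ⟨a, ha, rfl⟩
    exact ⟨a⁻¹, inv_mem ha, inv_pow _ _⟩

/-- The factorization. -/
theorem center_thompson_factor (hchar : centralizer (Cfsg.pCore 2 G : Set G) ≤ Cfsg.pCore 2 G)
    (hfree : ¬ Cfsg.Involves (Equiv.Perm (Fin 4)) G) (S : Sylow 2 G) (g : G) :
    ∃ c ∈ centralizer (((S : Subgroup G) ⊓ centralizer ((S : Subgroup G) : Set G) : Subgroup G)
        : Set G),
      ∃ n ∈ normalizer (Cfsg.thompsonSubgroupOf 2 (S : Subgroup G) : Set G), g = c * n := by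
  haveI : Fact (Nat.Prime 2) := ⟨Nat.prime_two⟩
  have hinv := not_inverts_of_free hchar hfree
  set Z := (S : Subgroup G) ⊓ centralizer ((S : Subgroup G) : Set G) with hZ
  obtain ⟨N, hN⟩ := IsPGroup.iff_card.1 (S.2.to_le (inf_le_left : Z ≤ _))
  suffices key : ∀ i ≤ N, ∀ g : G,
      ∃ c ∈ centralizer (powCenter (S : Subgroup G) (N - i) : Set G),
      ∃ n ∈ normalizer (Cfsg.thompsonSubgroupOf 2 (S : Subgroup G) : Set G), g = c * n by
    obtain ⟨c, hc, n, hn, he⟩ := key N le_rfl g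
    have hle : Z ≤ powCenter (S : Subgroup G) (N - N) := fun z hz => ⟨z, hz, by simp⟩
    exact ⟨c, centralizer_le hle hc, n, hn, he⟩
  intro i hi
  induction i with
  | zero =>
    intro g
    refine ⟨g, mem_centralizer_iff.2 ?_, 1, one_mem _, (mul_one g).symm⟩
    rintro _ ⟨w, hw, rfl⟩
    have h : w ^ 2 ^ N = 1 := by
      have := congrArg Subtype.val
        (orderOf_dvd_iff_pow_eq_one.1 (orderOf_dvd_natCard (⟨w, hw⟩ : ↥Z)))
      rwa [hN, SubmonoidClass.coe_pow, OneMemClass.coe_one] at this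
    rw [Nat.sub_zero, h, one_mul, mul_one]
  | succ i ih =>
    intro g
    obtain ⟨c, hc, n, hn, rfl⟩ := ih (by omega) g
    set X := centralizer (powCenter (S : Subgroup G) (N - i) : Set G) with hX
    have hSX : (S : Subgroup G) ≤ X := fun s hs => mem_centralizer_iff.2 fun z hz => by
      obtain ⟨w, hw, rfl⟩ := hz
      exact ((show Commute s w from mem_centralizer_iff.1 hw.2 s hs).pow_right _).symm.eq
    set S' : Sylow 2 X := S.subtype hSX
    have hS' : (S' : Subgroup X) = (S : Subgroup G).subgroupOf X := rfl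
    set j := N - (i + 1) with hj
    have hji : N - i = j + 1 := by omega
    set P := powCenter (S : Subgroup G) j with hP
    have hPZ : P ≤ Z := by
      rintro _ ⟨w, hw, rfl⟩
      exact pow_mem hw _
    have hPX : P ≤ X := hPZ.trans (inf_le_left.trans hSX)
    obtain ⟨c', hc', n', hn', he⟩ := factor_step (charP_subgroup hchar
        ((CfsgLib.Fitting.pCore_le_sylow S).trans hSX))
      (fun h => hinv h.of_subgroup) S' (P.subgroupOf X) (fun z hz => ⟨(hPZ hz).1,
        mem_centralizer_iff.2 fun s hs => Subtype.ext (mem_centralizer_iff.1 (hPZ hz).2 s hs)⟩)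
      (fun z hz => mem_center_iff.2 fun y => Subtype.ext (by
        obtain ⟨w, hw, hwz⟩ := mem_subgroupOf.1 hz
        have h2 : (z : G) * z ∈ powCenter (S : Subgroup G) (N - i) :=
          ⟨w, hw, by rw [hji, pow_succ, pow_mul, hwz, pow_two]⟩
        exact (mem_centralizer_iff.1 y.2 _ h2).symm))
      ⟨c, hc⟩
    refine ⟨(c' : G), mem_centralizer_iff.2 fun z hz =>
      congrArg Subtype.val (mem_centralizer_iff.1 hc' ⟨z, hPX hz⟩ hz), (n' : G) * n, ?_, ?_⟩
    · refine mul_mem ?_ hn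
      have h := le_normalizer_map X.subtype (mem_map_of_mem X.subtype hn')
      rwa [← thompsonSubgroupOf_map X.subtype X.subtype_injective, hS',
        map_subgroupOf_eq_of_le hSX] at h
    · rw [← mul_assoc]
      congr 1
      exact congrArg Subtype.val he

end CfsgLib.SThreeFree
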