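import Cfsg.Agent.SThreeFree.Charpoly

/-!
Spaces of endomorphisms `f` with `f` and `1 - f` injective acting compatibly on a space and on a
space of linear maps out of it: a Chevalley-Warning bound.
-/

set_option autoImplicit false
set_option linter.unusedSectionVars false
set_option linter.unusedVariables false

namespace CfsgLib.SThreeFree

open Polynomial Module

theorem zmod_two_eq_one {x : ZMod 2} (h : x ≠ 0) : x = 1 := by
  revert x; decide

/-- The coefficients of the quotient of two homogeneous monic polynomials have small degree. -/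
theorem totalDegree_coeff_divByMonic {σ R : Type*} [CommRing R] [Nontrivial R]
    (w p : Polynomial (MvPolynomial σ R)) (hw : w.Monic) (hp : p.Monic)
    (hb : p.natDegree ≤ w.natDegree)
    (hwd : ∀ i ≤ w.natDegree, (w.coeff i).totalDegree ≤ w.natDegree - i)
    (hpd : ∀ i ≤ p.natDegree, (p.coeff i).totalDegree ≤ p.natDegree - i) (i : ℕ) :
    ((w /ₘ p).coeff i).totalDegree ≤ (w.natDegree - p.natDegree) - i := by
  classical
  set n := w.natDegree
  set b := p.natDegree
  set G := w /ₘ p
  have hG : G.natDegree = n - b := natDegree_divByMonic w hp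
  suffices ∀ d i, (n - b) - i = d → (G.coeff i).totalDegree ≤ d from this _ i rfl
  intro d
  induction d using Nat.strong_induction_on with
  | _ d ih =>
    intro i hi
    rcases lt_or_ge (n - b) i with hlt | hle
    · rw [coeff_eq_zero_of_natDegree_lt (hG ▸ hlt), MvPolynomial.totalDegree_zero]
      exact Nat.zero_le _
    have hrem : (w %ₘ p).coeff (b + i) = 0 := by
      by_cases h0 : w %ₘ p = 0
      · rw [h0, coeff_zero]
      · refine coeff_eq_zero_of_natDegree_lt (lt_of_lt_of_le ?_ (Nat.le_add_right _ _))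
        exact natDegree_modByMonic_lt w hp fun h => h0 (by rw [h, modByMonic_one])
    have hc := congrArg (fun q : Polynomial (MvPolynomial σ R) => q.coeff (b + i))
      (modByMonic_add_div w p)
    simp only [coeff_add, hrem, zero_add, coeff_mul] at hc
    rw [← Finset.add_sum_erase _ _ (show (b, i) ∈ Finset.HasAntidiagonal.antidiagonal (b + i) by simp),
      show p.coeff b = 1 from hp.coeff_natDegree, one_mul] at hc
    rw [eq_sub_of_add_eq hc]
    refine (MvPolynomial.totalDegree_sub _ _).trans (max_le ?_ ?_)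
    · exact (hwd _ (by omega)).trans (by omega)
    refine (MvPolynomial.totalDegree_finsetSum _ _).trans (Finset.sup_le fun x hx => ?_)
    obtain ⟨a, j⟩ := x
    simp only [Finset.mem_erase, Finset.HasAntidiagonal.mem_antidiagonal, ne_eq, Prod.mk.injEq] at hx
    obtain ⟨hne, hsum⟩ := hx
    show (p.coeff a * G.coeff j).totalDegree ≤ d
    rcases lt_or_ge b a with hlt | hab
    · rw [coeff_eq_zero_of_natDegree_lt hlt, zero_mul, MvPolynomial.totalDegree_zero]
      exact Nat.zero_le _
    rcases lt_or_ge (n - b) j with hlt | hjb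
    · rw [coeff_eq_zero_of_natDegree_lt (p := G) (hG.trans_lt hlt), mul_zero, MvPolynomial.totalDegree_zero]
      exact Nat.zero_le _
    have hij : i < j := by omega
    refine (MvPolynomial.totalDegree_mul _ _).trans ?_
    have h1 := hpd a hab
    have h2 := ih ((n - b) - j) (by omega) j rfl
    omega

section

variable {W Z : Type*} [AddCommGroup W] [Module (ZMod 2) W] [FiniteDimensional (ZMod 2) W]
  [AddCommGroup Z] [Module (ZMod 2) Z] [FiniteDimensional (ZMod 2) Z]

/-- Composition on the right, on an invariant space of linear maps. -/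
def compOn (Φ : Submodule (ZMod 2) (W →ₗ[ZMod 2] Z)) (T : Submodule (ZMod 2) (Module.End (ZMod 2) W))
    (hcl : ∀ ξ ∈ Φ, ∀ f ∈ T, ξ.comp f ∈ Φ) : T →ₗ[ZMod 2] Module.End (ZMod 2) Φ where
  toFun f :=
    { toFun := fun ξ => ⟨(ξ : W →ₗ[ZMod 2] Z).comp f.1, hcl _ ξ.2 _ f.2⟩
      map_add' := fun ξ η => Subtype.ext (LinearMap.add_comp _ _ _)
      map_smul' := fun c ξ => Subtype.ext (LinearMap.smul_comp _ _ _) }
  map_add' f g := LinearMap.ext fun ξ => Subtype.ext (LinearMap.comp_add _ _ _)
  map_smul' c f := LinearMap.ext fun ξ => Subtype.ext (LinearMap.comp_smul _ c _)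

variable {Φ : Submodule (ZMod 2) (W →ₗ[ZMod 2] Z)} {T : Submodule (ZMod 2) (Module.End (ZMod 2) W)}
  {hcl : ∀ ξ ∈ Φ, ∀ f ∈ T, ξ.comp f ∈ Φ}

theorem coe_compOn_pow (f : T) (k : ℕ) (ξ : Φ) :
    (((compOn Φ T hcl f) ^ k) ξ : W →ₗ[ZMod 2] Z) = (ξ : W →ₗ[ZMod 2] Z).comp (f.1 ^ k) := by
  induction k generalizing ξ with
  | zero => rfl
  | succ k ih =>
    rw [pow_succ, pow_succ', Module.End.mul_apply, ih]
    rfl

theorem coe_aeval_compOn (f : T) (p : (ZMod 2)[X]) (ξ : Φ) :
    ((aeval (compOn Φ T hcl f) p) ξ : W →ₗ[ZMod 2] Z) =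
      (ξ : W →ₗ[ZMod 2] Z).comp (aeval f.1 p) := by
  induction p using Polynomial.induction_on' with
  | add p q hp hq => simp [hp, hq, LinearMap.comp_add]
  | monomial k a =>
    ext w
    simp [aeval_monomial, coe_compOn_pow]

/-- If the dimension of each space of maps in `Φ` killing a subspace is at most its codimension, then
`dim T + dim Φ < dim W`. -/
theorem finrank_add_lt (hcl : ∀ ξ ∈ Φ, ∀ f ∈ T, ξ.comp f ∈ Φ)
    (hinj : ∀ f ∈ T, f ≠ 0 → Function.Injective f ∧ Function.Injective (1 - f : Module.End (ZMod 2) W))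
    (hmargin : ∀ Ψ : Submodule (ZMod 2) (W →ₗ[ZMod 2] Z), Ψ ≤ Φ → ∀ K : Submodule (ZMod 2) W,
      (∀ ξ ∈ Ψ, ∀ k ∈ K, ξ k = 0) → finrank (ZMod 2) Ψ + finrank (ZMod 2) K ≤ finrank (ZMod 2) W)
    (hlt : finrank (ZMod 2) Φ < finrank (ZMod 2) W) :
    finrank (ZMod 2) T + finrank (ZMod 2) Φ < finrank (ZMod 2) W := by
  classical
  by_contra hcon
  push Not at hcon
  set n := finrank (ZMod 2) W with hn
  set b := finrank (ZMod 2) Φ with hb
  set r := finrank (ZMod 2) T with hr
  set ψ := compOn Φ T hcl with hψ
  have hdvd : ∀ f : T, (ψ f).charpoly ∣ f.1.charpoly := by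
    intro f
    refine charpoly_dvd _ _ fun p => ?_
    set N := LinearMap.ker (aeval (ψ f) p) with hN
    set K := LinearMap.range (aeval f.1 p) with hK
    have h1 := hmargin (N.map Φ.subtype) (Submodule.map_subtype_le _ _) K (by
      rintro - ⟨ξ, hξ, rfl⟩ - ⟨w, rfl⟩
      have := congrArg Subtype.val (LinearMap.mem_ker.1 hξ)
      rw [coe_aeval_compOn] at this
      exact LinearMap.congr_fun this w)
    rw [← (Submodule.equivMapOfInjective _ Φ.subtype_injective N).finrank_eq] at h1
    have h2 := (aeval f.1 p).finrank_range_add_finrank_ker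
    rw [← hK] at h2
    omega
  set β := Module.finBasis (ZMod 2) T
  set w := LinearMap.polyCharpoly T.subtype β with hw
  set p := LinearMap.polyCharpoly ψ β with hp
  have hwm : w.Monic := LinearMap.polyCharpoly_monic _ _
  have hpm : p.Monic := LinearMap.polyCharpoly_monic _ _
  have hwn : w.natDegree = n := LinearMap.polyCharpoly_natDegree _ _
  have hpn : p.natDegree = b := LinearMap.polyCharpoly_natDegree _ _
  set G := w /ₘ p with hG
  have hGdeg : ∀ i, (G.coeff i).totalDegree ≤ (n - b) - i := by
    have h := totalDegree_coeff_divByMonic w p hwm hpm (by omega)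
      (fun i hi => (LinearMap.polyCharpoly_coeff_isHomogeneous _ _ i _
        (by omega)).totalDegree_le)
      (fun i hi => (LinearMap.polyCharpoly_coeff_isHomogeneous _ _ i _
        (by omega)).totalDegree_le)
    rwa [hwn, hpn] at h
  set g := n - b with hg
  set q : MvPolynomial (Fin r) (ZMod 2) := ∑ i ∈ Finset.Ico 1 g, G.coeff i with hq
  have hqdeg : q.totalDegree ≤ g - 1 :=
    (MvPolynomial.totalDegree_finsetSum _ _).trans (Finset.sup_le fun i hi => by
      have := hGdeg i; rw [Finset.mem_Ico] at hi; omega)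
  have hqv : ∀ x : T, MvPolynomial.eval (β.repr x) q = if x = 0 then 0 else 1 := by
    intro x
    set e := MvPolynomial.eval (R := ZMod 2) (β.repr x : Fin r → ZMod 2)
    set Gx := x.1.charpoly /ₘ (ψ x).charpoly with hGx
    have hmap : G.map e = Gx := by
      rw [hG, Polynomial.map_divByMonic _ hpm, hw, hp, LinearMap.polyCharpoly_map_eq_charpoly,
        LinearMap.polyCharpoly_map_eq_charpoly]
      rfl
    have hcoef : ∀ i, e (G.coeff i) = Gx.coeff i := fun i => by rw [← hmap, Polynomial.coeff_map]
    rw [hq, map_sum, Finset.sum_congr rfl fun i _ => hcoef i]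
    have hmul : (ψ x).charpoly * Gx = x.1.charpoly := by
      have h := modByMonic_add_div x.1.charpoly (ψ x).charpoly
      rwa [(modByMonic_eq_zero_iff_dvd (ψ x).charpoly_monic).2 (hdvd x), zero_add] at h
    split_ifs with h0
    · subst h0
      have hb' : (ψ 0).charpoly = X ^ b := by rw [map_zero, LinearMap.charpoly_zero]
      have hGx' : Gx = X ^ g := by
        refine mul_left_cancel₀ (pow_ne_zero b X_ne_zero) ?_
        rw [← hb', hmul, hb', ← pow_add, ZeroMemClass.coe_zero, LinearMap.charpoly_zero,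
          ← hn, Nat.add_sub_cancel' (by omega)]
      refine Finset.sum_eq_zero fun i hi => ?_
      rw [hGx', coeff_X_pow, if_neg (by rw [Finset.mem_Ico] at hi; omega)]
    · have hx : x.1 ≠ 0 := fun h => h0 (Subtype.ext h)
      obtain ⟨hi1, hi2⟩ := hinj x.1 x.2 hx
      have hev : ∀ c : ZMod 2, Function.Injective (algebraMap (ZMod 2) (Module.End (ZMod 2) W) c
          - x.1 : Module.End (ZMod 2) W) → Gx.eval c = 1 := by
        intro c hc
        refine zmod_two_eq_one fun hz => ?_
        have h := congrArg (Polynomial.eval c) hmul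
        rw [eval_mul, hz, mul_zero, LinearMap.eval_charpoly, eq_comm,
          LinearMap.det_eq_zero_iff_ker_ne_bot] at h
        exact h (LinearMap.ker_eq_bot.2 hc)
      have hgm : Gx.Monic := (ψ x).charpoly_monic.of_mul_monic_left (hmul ▸ x.1.charpoly_monic)
      have hgd : Gx.natDegree = g := by
        rw [hGx, natDegree_divByMonic _ (ψ x).charpoly_monic, LinearMap.charpoly_natDegree,
          LinearMap.charpoly_natDegree]
      have e0 := hev 0 (by
        rw [map_zero, zero_sub]
        intro u v huv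
        exact hi1 (neg_injective huv))
      have e1 := hev 1 (by rwa [map_one])
      rw [eval_eq_sum_range, hgd, Finset.sum_range_succ, ← hgd, hgm.coeff_natDegree, hgd,
        Finset.range_eq_Ico, Finset.sum_eq_sum_Ico_succ_bot (by omega : 0 < g)] at e1
      rw [← coeff_zero_eq_eval_zero] at e0
      simp only [one_pow, mul_one, zero_add, e0] at e1
      generalize ∑ i ∈ Finset.Ico 1 g, Gx.coeff i = s at e1 ⊢
      revert s; decide
  have hCW : ∑ v : Fin r → ZMod 2, MvPolynomial.eval v q = 0 :=
    MvPolynomial.sum_eval_eq_zero q (by rw [ZMod.card, Fintype.card_fin]; omega)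
  let _ : Fintype T := Fintype.ofEquiv _ β.equivFun.symm.toEquiv
  rw [← β.equivFun.toEquiv.sum_comp] at hCW
  simp only [LinearEquiv.coe_toEquiv, Basis.equivFun_apply, hqv] at hCW
  rw [Finset.sum_ite, Finset.sum_const_zero, zero_add, Finset.sum_const, nsmul_one,
    Finset.filter_ne' Finset.univ (0 : T), Finset.card_erase_of_mem (Finset.mem_univ _),
    Finset.card_univ, Fintype.card_congr β.equivFun.toEquiv] at hCW
  have hpow : (2 : ℕ) ∣ 2 ^ r := dvd_pow_self 2 (by omega)
  rw [Fintype.card_fun, ZMod.card, Fintype.card_fin, ← hr, ZMod.natCast_eq_zero_iff] at hCW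
  · have := Nat.one_le_two_pow (n := r)
    omega

end

end CfsgLib.SThreeFree
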