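import Cfsg.Agent.SThreeFree.Reduce
import Cfsg.Agent.SThreeFree.LinAlg

/-!
The final configuration is contradictory.
-/

set_option autoImplicit false
set_option linter.unusedSectionVars false
set_option linter.unusedVariables false
set_option linter.style.haveILetI false

namespace CfsgLib.SThreeFree

open Subgroup CfsgLib.OffGen CfsgLib.PMinFF CfsgLib.YMinimal Module

variable {H : Type*} [Group H] [Finite H]
variable {V : Type*} [AddCommGroup V] [Finite V] [DistribMulAction H V]

/-- `v ↦ g • v - v`. -/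
def dif (g : H) : V →+ V := DistribSMul.toAddMonoidHom V g - AddMonoidHom.id V

theorem dif_apply (g : H) (v : V) : dif g v = g • v - v := rfl

theorem add_self_eq_zero' (hexp : ∀ v : V, 2 • v = 0) (v : V) : v + v = 0 := by
  rw [← two_nsmul]; exact hexp v

theorem sub_eq_add' (hexp : ∀ v : V, 2 • v = 0) (u v : V) : u - v = u + v := by
  rw [sub_eq_add_neg, neg_eq_of_add_eq_zero_left (add_self_eq_zero' hexp v)]

/-- The commutator of an element acting trivially modulo the fixed points with an involution. -/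
theorem dif_commutator (hexp : ∀ v : V, 2 • v = 0) {q a : H}
    (hq : ∀ v : V, q • v - v ∈ fix V (⊤ : Subgroup H)) (ha : a * a = 1) (u : V) :
    (q * a * q * a) • u - u = q • (a • u - u) - (a • u - u) := by
  have hq' : ∀ v : V, ∀ g : H, g • (q • v - v) = q • v - v := fun v g => hq v g (mem_top g)
  have h1 : q • (a • u) = a • u + (q • (a • u) - a • u) := by abel
  rw [mul_smul, mul_smul, mul_smul, h1, smul_add, hq' (a • u) a, ← mul_smul a a, ha, one_smul,
    smul_add, hq' (a • u) q, smul_sub q (a • u) u]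
  simp only [sub_eq_add' hexp]
  abel_nf
  try simp [hexp, add_self_eq_zero' hexp]

namespace Final

variable {T : Sylow 2 H} {Y : AddSubgroup V} {A M : Subgroup H} (F : Final T Y A M)

include F

theorem core_le_sylow : Cfsg.pCore 2 H ≤ (T : Subgroup H) :=
  haveI : Fact (Nat.Prime 2) := ⟨Nat.prime_two⟩
  CfsgLib.Fitting.pCore_le_sylow T

theorem overM : CfsgLib.PMin.Over (T : Subgroup H) M :=
  ⟨F.hTM, F.top, fun X hX => or_iff_not_imp_left.2 fun hne =>
    F.uniq X (sup_le (F.le.trans hX) (F.core_le_sylow.trans hX)) hne⟩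

theorem le_M : A ≤ M := F.le.trans F.hTM

theorem hmem : Mem V 2 A := F.hA.mem F.base.exp F.base.faithful

theorem sq {a : H} (ha : a ∈ A) : a * a = 1 := by rw [← pow_two]; exact F.hA.elem.pow a ha

theorem good_core : Good (Cfsg.pCore 2 H) (⊤ : AddSubgroup V) :=
  haveI : Fact (Nat.Prime 2) := ⟨Nat.prime_two⟩
  good_core_top F.good F.gen

theorem Y_le : Y ≤ fix V A := le_ptw_iff.1 (F.hA.le_ptw F.good F.le)

theorem eq_top_of_sup_core {X : Subgroup H} (hAX : A ≤ X) (hX : X ⊔ Cfsg.pCore 2 H = ⊤) :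
    X = ⊤ := by
  haveI : Fact (Nat.Prime 2) := ⟨Nat.prime_two⟩
  by_contra hne
  set R := Cfsg.pCore 2 H with hR
  haveI hRn : R.Normal := CfsgLib.Solvable.pCore_normal 2
  set P := (T : Subgroup H) ⊓ X with hP
  have hPR : P ⊔ R = T := by
    refine le_antisymm (sup_le inf_le_left F.core_le_sylow) fun t ht => ?_
    obtain ⟨x, hx, r, hr, rfl⟩ := mem_sup_of_normal_right.1 (hX.ge (mem_top t))
    refine mul_mem_sup ⟨?_, hx⟩ hr
    have h := (T : Subgroup H).mul_mem ht ((T : Subgroup H).inv_mem (F.core_le_sylow hr))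
    rwa [mul_inv_cancel_right] at h
  have hsyl : IsSylowIn 2 P X := by
    refine ⟨inf_le_right, T.2.to_le inf_le_left, ?_⟩
    have h1 := CfsgLib.Solvable.card_sup_mul_card_inf (A := X) (K := R) le_normalizer_of_normal
    have h2 := CfsgLib.Solvable.card_sup_mul_card_inf (A := P) (K := R) le_normalizer_of_normal
    have h3 : P ⊓ R = X ⊓ R := le_antisymm (inf_le_inf_right _ inf_le_right)
      (le_inf (le_inf (inf_le_right.trans F.core_le_sylow) inf_le_left) inf_le_right)
    rw [hX, card_top] at h1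
    rw [hPR, h3] at h2
    rw [← card_mul_relIndex (inf_le_right : P ≤ X)] at h1
    have h4 := (T : Subgroup H).card_mul_index
    rw [← h4, mul_right_comm (Nat.card (T : Subgroup H)), h2] at h1
    have h5 : (T : Subgroup H).index = P.relIndex X := by
      refine Nat.eq_of_mul_eq_mul_left
        (Nat.mul_pos (Nat.card_pos (α := P)) (Nat.card_pos (α := R))) ?_
      rw [h1]; ring
    rw [← h5]
    exact T.not_dvd_index
  have hst : (T : Subgroup H) ≤ stab H Y := F.hTM.trans F.st.ge
  have hgen : genIn X Y = ⊤ := by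
    refine top_le_iff.1 (F.gen ▸ genIn_le ?_ (le_genIn X Y))
    rw [← hX]
    refine sup_le (le_stab_genIn X Y) fun r hr => img_eq_of_le ?_
    rw [genIn, SThreeFree.img, AddSubgroup.map_iSup]
    refine iSup_le fun x => le_iSup_of_le x (le_of_eq ?_)
    show SThreeFree.img r (SThreeFree.img (x : H) Y) = SThreeFree.img (x : H) Y
    have hr' : (x : H)⁻¹ * r * x ∈ stab H Y :=
      hst (F.core_le_sylow (by simpa using hRn.conj_mem r hr ((x : H)⁻¹)))
    rw [← img_mul, show r * (x : H) = x * ((x : H)⁻¹ * r * x) by group, img_mul, mem_stab.1 hr']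
  exact F.hA.not_good_top F.base.faithful (show A ≤ P from le_inf F.le hAX)
    (hgen ▸ F.base.ih X hne P hsyl Y (inv_iff.2 (inf_le_left.trans hst)) (F.good.mono inf_le_left))

theorem gen' {x : H} (hx : x ∉ M) : A ⊔ A.map (MulAut.conj x).toMonoidHom = ⊤ :=
  F.eq_top_of_sup_core le_sup_left (F.conj x hx)

theorem quad {a : H} (ha : a ∈ A) (u : V) : a • u - u ∈ fix V A :=
  fun b hb => F.hmem.quad a ha b hb u

theorem exists_sum {x : H} (hx : x ∉ M) (v : V) :
    ∃ l ∈ fix V A, ∃ l' ∈ fix V A, v = l + x • l' := by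
  set S := fix V A ⊔ SThreeFree.img x (fix V A) with hS
  have hinv := invariant_of_gen (F.gen' hx) S (fun a ha w hw => ?_) (fun a ha w hw => ?_)
  · have hY : genIn (⊤ : Subgroup H) Y ≤ S :=
      genIn_le (fun g _ => mem_stab_of (hinv g)) (F.Y_le.trans le_sup_left)
    obtain ⟨l, hl, w, ⟨l', hl', rfl⟩, rfl⟩ :=
      AddSubgroup.mem_sup.1 (hY (F.gen ▸ trivial : v ∈ genIn (⊤ : Subgroup H) Y))
    exact ⟨l, hl, l', hl', rfl⟩
  · rw [← sub_add_cancel (a • w) w]
    exact add_mem (le_sup_left (α := AddSubgroup V) (F.quad ha w)) hw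
  · rw [← sub_add_cancel ((x * a * x⁻¹) • w) w]
    refine add_mem (le_sup_right (α := AddSubgroup V) (mem_img.2 ?_)) hw
    rw [smul_sub, ← mul_smul, show x⁻¹ * (x * a * x⁻¹) = a * x⁻¹ by group, mul_smul]
    exact F.quad ha _

theorem core_moved {a : H} (ha : a ∈ A) (haR : a ∉ Cfsg.pCore 2 H) :
    ∃ y : H, y * a * y⁻¹ ∉ M := by
  haveI : Fact (Nat.Prime 2) := ⟨Nat.prime_two⟩
  by_contra hall
  push Not at hall
  exact haR (CfsgLib.PMin.normal_inf_le_pCore F.overM M.normalCore M.normalCore_le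
    ⟨fun b => hall b, F.le ha⟩)

theorem key {a : H} (ha : a ∈ A) (haR : a ∉ Cfsg.pCore 2 H) {u : V}
    (hz : a • u - u ∈ fix V (⊤ : Subgroup H)) : u ∈ fix V A := by
  obtain ⟨y, hy⟩ := F.core_moved ha haR
  have hyM : y ∉ M := fun h => hy (M.mul_mem (M.mul_mem h (F.le_M ha)) (M.inv_mem h))
  obtain ⟨l, hl, l', hl', rfl⟩ := F.exists_sum (fun h => hyM (inv_inv y ▸ M.inv_mem h) : y⁻¹ ∉ M) u
  have hz' : a • (y⁻¹ • l') - y⁻¹ • l' ∈ fix V (⊤ : Subgroup H) := by
    have e : a • (l + y⁻¹ • l') - (l + y⁻¹ • l') = a • (y⁻¹ • l') - y⁻¹ • l' := by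
      rw [smul_add, hl a ha]; abel
    rwa [e] at hz
  have hl'Z : l' ∈ fix V (⊤ : Subgroup H) := by
    refine fix_of_conj (F.gen' (x := (y * a * y⁻¹)⁻¹) fun h => hy (by simpa using M.inv_mem h))
      hl' ?_
    rw [inv_inv, mul_smul, mul_smul]
    have e : y • a • y⁻¹ • l' = l' + (a • (y⁻¹ • l') - y⁻¹ • l') := by
      conv_lhs => rw [← sub_add_cancel (a • y⁻¹ • l') (y⁻¹ • l')]
      rw [smul_add, smul_inv_smul, hz' y (mem_top _), add_comm]
    rw [e]
    exact (fix V A).add_mem hl' (fix_anti (V := V) le_top hz')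
  exact (fix V A).add_mem hl (by rw [hl'Z y⁻¹ (mem_top _)]; exact hl')

theorem core_mem {l : H} (hl : l ∈ A) (hlR : l ∈ Cfsg.pCore 2 H) (u : V) :
    l • u - u ∈ fix V (⊤ : Subgroup H) := by
  haveI : Fact (Nat.Prime 2) := ⟨Nat.prime_two⟩
  haveI hRn : (Cfsg.pCore 2 H).Normal := CfsgLib.Solvable.pCore_normal 2
  suffices h : genIn (⊤ : Subgroup H) Y ≤ (fix V (⊤ : Subgroup H)).comap (dif l) from
    h (F.gen ▸ trivial : u ∈ genIn (⊤ : Subgroup H) Y)
  refine iSup_le fun h => ?_
  rintro - ⟨y, hy, rfl⟩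
  show l • ((h : H) • y) - (h : H) • y ∈ fix V (⊤ : Subgroup H)
  by_cases hM : (h : H) ∈ M
  · have : (h : H) • y ∈ fix V A := F.Y_le (smul_mem_of_stab (F.st.ge hM) hy)
    rw [this l hl, sub_self]
    exact zero_mem _
  refine fix_of_conj (F.gen' hM) (F.quad hl _) ?_
  have hr : (h : H)⁻¹ * l * h ∈ stab H Y :=
    F.st.ge (F.hTM (F.core_le_sylow (by simpa using hRn.conj_mem l hlR ((h : H)⁻¹))))
  rw [smul_sub, inv_smul_smul, ← mul_smul, ← mul_smul]
  exact F.Y_le (sub_mem (smul_mem_of_stab hr hy) hy)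

theorem fix_ne_top : fix V A ≠ ⊤ := fun e => F.hA.ne (eq_bot_iff.2 fun a ha =>
  mem_bot.2 (F.base.faithful a fun v => (e.ge (AddSubgroup.mem_top v) : v ∈ fix V A) a ha))

theorem index_le : (fix V A).index ≤ Nat.card A := by
  have h := F.hA.bound
  rw [meas, ← (fix V A).card_mul_index, mul_comm (Nat.card A)] at h
  exact Nat.le_of_mul_le_mul_left h Nat.card_pos

theorem contradiction : False := by
  classical
  haveI : Fact (Nat.Prime 2) := ⟨Nat.prime_two⟩
  haveI hRn : (Cfsg.pCore 2 H).Normal := CfsgLib.Solvable.pCore_normal 2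
  have hexp := F.base.exp
  obtain ⟨a₀, ha₀, ha₀R⟩ := SetLike.not_le_iff_exists.1 F.notCore
  obtain ⟨x, hx⟩ : ∃ x, x ∉ M := by
    by_contra hall
    push Not at hall
    exact F.top (top_le_iff.1 fun g _ => hall g)
  obtain ⟨a', ha'⟩ : ∃ a', a' = x * a₀ * x⁻¹ := ⟨_, rfl⟩
  have ha'2 : a' * a' = 1 := by
    rw [ha', show x * a₀ * x⁻¹ * (x * a₀ * x⁻¹) = x * (a₀ * a₀) * x⁻¹ by group, F.sq ha₀]
    group
  set C := fix V A with hC
  set Z := fix V (⊤ : Subgroup H) with hZ
  have hd' : ∀ w : V, x⁻¹ • (a' • w - w) = a₀ • (x⁻¹ • w) - x⁻¹ • w := fun w => by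
    rw [smul_sub, ← mul_smul, ha', show x⁻¹ * (x * a₀ * x⁻¹) = a₀ * x⁻¹ by group, mul_smul]
  -- the subgroup acting by transvections
  let Ψ : Subgroup H :=
    { carrier := {q | (∀ c ∈ C, q • c = c) ∧ ∀ u : V, q • u - u ∈ Z}
      one_mem' := ⟨fun c _ => one_smul _ c, fun u => by rw [one_smul, sub_self]; exact Z.zero_mem⟩
      mul_mem' := fun {p q} hp hq => ⟨fun c hc => by rw [mul_smul, hq.1 c hc, hp.1 c hc], fun u => by
        have : (p * q) • u - u = (p • (q • u) - q • u) + (q • u - u) := by rw [mul_smul]; abel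
        rw [this]
        exact Z.add_mem (hp.2 _) (hq.2 u)⟩
      inv_mem' := fun {p} hp => ⟨fun c hc => inv_smul_eq_iff.2 (hp.1 c hc).symm, fun u => by
        have := Z.neg_mem (hp.2 (p⁻¹ • u))
        rwa [smul_inv_smul, neg_sub] at this⟩ }
  let Qz : Subgroup H :=
    { carrier := {q | ∀ u : V, q • u - u ∈ Z}
      one_mem' := fun u => by rw [one_smul, sub_self]; exact Z.zero_mem
      mul_mem' := fun {p q} hp hq u => by
        have : (p * q) • u - u = (p • (q • u) - q • u) + (q • u - u) := by rw [mul_smul]; abel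
        rw [this]
        exact Z.add_mem (hp _) (hq u)
      inv_mem' := fun {p} hp u => by
        have := Z.neg_mem (hp (p⁻¹ • u))
        rwa [smul_inv_smul, neg_sub] at this }
  have hsq : ∀ q ∈ Qz, q * q = 1 := fun q hq => F.base.faithful _ fun u => by
    have h1 := hq u q (mem_top q)
    rw [smul_sub] at h1
    have h2 : q • q • u = (q • u - u) + (q • u - u) + u := by
      rw [eq_add_of_sub_eq h1]; abel
    rw [mul_smul, h2, add_self_eq_zero' hexp, zero_add]
  have hQzR : Qz ≤ Cfsg.pCore 2 H := by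
    refine CfsgLib.Solvable.le_pCore 2 ⟨fun q hq g u => ?_⟩
      (fun q => ⟨1, Subtype.ext (by simpa [pow_two] using hsq q q.2)⟩)
    have h1 : (g * q * g⁻¹) • u - u = g • (q • (g⁻¹ • u) - g⁻¹ • u) := by
      rw [smul_sub, smul_inv_smul, mul_smul, mul_smul]
    rw [h1, hq (g⁻¹ • u) g (mem_top g)]
    exact hq _
  have hΨR : Ψ ≤ Cfsg.pCore 2 H := fun q hq => hQzR hq.2
  have hΨel : Elem 2 Ψ := by
    have hinv : ∀ q ∈ Ψ, q⁻¹ = q := fun q hq => inv_eq_of_mul_eq_one_right (hsq q hq.2)
    refine ⟨fun p hp q hq => ?_, fun q hq => by rw [pow_two, hsq q hq.2]⟩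
    have h := hinv _ (Ψ.mul_mem hp hq)
    rwa [mul_inv_rev, hinv p hp, hinv q hq, eq_comm] at h
  -- the modules
  letI : Module (ZMod 2) (V ⧸ C) := AddCommGroup.zmodModule fun w => by
    obtain ⟨v, rfl⟩ := QuotientAddGroup.mk_surjective w
    rw [← QuotientAddGroup.mk_nsmul, hexp, QuotientAddGroup.mk_zero]
  letI : Module (ZMod 2) Z := AddCommGroup.zmodModule fun z => Subtype.ext (hexp z)
  haveI : Finite (V ⧸ C) := Finite.of_surjective _ QuotientAddGroup.mk_surjective
  haveI : Finite ((V ⧸ C) →ₗ[ZMod 2] Z) := Finite.of_injective _ DFunLike.coe_injective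
  haveI : Finite (Module.End (ZMod 2) (V ⧸ C)) :=
    Finite.of_injective (fun f => (f : V ⧸ C → V ⧸ C)) DFunLike.coe_injective
  let π : V →+ V ⧸ C := QuotientAddGroup.mk' C
  have hπ : ∀ v, π v = 0 ↔ v ∈ C := fun v => QuotientAddGroup.eq_zero_iff v
  have hlin : ∀ {N : Type _} [AddCommGroup N] [Module (ZMod 2) N]
      {f g : (V ⧸ C) →ₗ[ZMod 2] N}, (∀ v, f (π v) = g (π v)) → f = g := by
    intro N _ _ f g h
    refine LinearMap.ext fun w => ?_
    obtain ⟨v, rfl⟩ := QuotientAddGroup.mk_surjective w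
    exact h v
  let δ : Ψ → (V ⧸ C) →ₗ[ZMod 2] Z := fun q =>
    (QuotientAddGroup.lift C ((dif (q : H)).codRestrict Z fun u => q.2.2 u) fun c hc => by
      refine (AddMonoidHom.mem_ker).2 (Subtype.ext ?_)
      show (q : H) • c - c = 0
      rw [q.2.1 c hc, sub_self]).toZModLinearMap 2
  have hδ : ∀ (q : Ψ) (v : V), ((δ q (π v) : Z) : V) = (q : H) • v - v := fun q v => rfl
  let D : Additive Ψ →+ ((V ⧸ C) →ₗ[ZMod 2] Z) :=
    AddMonoidHom.mk' (fun q => δ (Additive.toMul q)) fun p q => hlin fun v => Subtype.ext (by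
      rw [LinearMap.add_apply, AddSubgroup.coe_add, hδ, hδ, hδ, toMul_add, Subgroup.coe_mul,
        mul_smul]
      have := (Additive.toMul q).2.2 v (Additive.toMul p : Ψ) (mem_top _)
      rw [smul_sub] at this
      rw [eq_add_of_sub_eq this]
      abel)
  have hDinj : Function.Injective D := by
    rw [injective_iff_map_eq_zero]
    intro q hq
    refine Additive.toMul.injective (Subtype.ext (F.base.faithful _ fun v => ?_))
    have := congrArg Subtype.val (LinearMap.congr_fun hq (π v))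
    rw [show D q = δ (Additive.toMul q) from rfl, hδ] at this
    exact sub_eq_zero.1 this
  set Φ : Submodule (ZMod 2) ((V ⧸ C) →ₗ[ZMod 2] Z) := AddSubgroup.toZModSubmodule 2 D.range
    with hΦ
  -- the endomorphisms
  let e : A → (V ⧸ C) →ₗ[ZMod 2] (V ⧸ C) := fun a =>
    (QuotientAddGroup.lift C (π.comp ((dif a').comp (dif (a : H)))) fun c hc => by
      refine (AddMonoidHom.mem_ker).2 ?_
      rw [AddMonoidHom.comp_apply, AddMonoidHom.comp_apply, dif_apply (a : H), hc a a.2, sub_self,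
        map_zero, map_zero]).toZModLinearMap 2
  have he : ∀ (a : A) (v : V), e a (π v) = π (a' • ((a : H) • v - v) - ((a : H) • v - v)) :=
    fun _ _ => rfl
  let E : Additive A →+ Module.End (ZMod 2) (V ⧸ C) :=
    AddMonoidHom.mk' (fun a => e (Additive.toMul a)) fun a b => hlin fun v => by
      rw [LinearMap.add_apply, he, he, he, ← map_add, toMul_add, Subgroup.coe_mul, mul_smul]
      have := F.quad (Additive.toMul b).2 v (Additive.toMul a : A) (Additive.toMul a).2
      rw [smul_sub] at this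
      rw [eq_add_of_sub_eq this]
      congr 1
      simp only [smul_sub, smul_add]
      abel
  set T' : Submodule (ZMod 2) (Module.End (ZMod 2) (V ⧸ C)) :=
    AddSubgroup.toZModSubmodule 2 E.range with hT'
  have he0 : ∀ a : A, (a : H) ∈ Cfsg.pCore 2 H → e a = 0 := fun a ha => hlin fun v => by
    rw [he, F.core_mem a.2 ha v a' (mem_top _), sub_self, map_zero]
    rfl
  have hWnt : Nontrivial (V ⧸ C) := by
    obtain ⟨v, -, hv⟩ := SetLike.exists_of_lt (lt_top_iff_ne_top.2 F.fix_ne_top)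
    exact ⟨π v, 0, fun h => hv ((hπ v).1 h)⟩
  -- injectivity off the core
  have hinj : ∀ a : A, (a : H) ∉ Cfsg.pCore 2 H → Function.Injective (e a) ∧
      Function.Injective (1 - e a : Module.End (ZMod 2) (V ⧸ C)) := by
    intro a haR
    have hker : ∀ v, ∀ w : V, w = (a : H) • v - v → a' • w - w ∈ C → v ∈ C := by
      intro v w hw h1
      have h2 : x⁻¹ • (a' • w - w) ∈ C := by rw [hd']; exact F.quad ha₀ _
      have h3 : a' • w - w ∈ Z := fix_of_conj (F.gen' hx) h1 h2
      have h4 : x⁻¹ • w ∈ C := by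
        refine F.key ha₀ ha₀R ?_
        rw [← hd', h3 x⁻¹ (mem_top _)]
        exact h3
      have h5 : w ∈ Z := fix_of_conj (F.gen' hx) (hw ▸ F.quad a.2 v) h4
      exact F.key a.2 haR (hw ▸ h5)
    refine ⟨(injective_iff_map_eq_zero _).2 fun w hw => ?_,
      (injective_iff_map_eq_zero _).2 fun w hw => ?_⟩
    · obtain ⟨v, rfl⟩ : ∃ v, π v = w := QuotientAddGroup.mk_surjective w
      rw [he, hπ] at hw
      exact (hπ v).2 (hker v _ rfl hw)
    obtain ⟨u, rfl⟩ : ∃ u, π u = w := QuotientAddGroup.mk_surjective w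
    rw [LinearMap.sub_apply, Module.End.one_apply, he, sub_eq_zero] at hw
    rw [hπ]
    by_contra hu
    set w := (a : H) • u - u with hwdef
    set u' := a' • w - w with hu'def
    have hu'C : u - u' ∈ C := (hπ _).1 (by rw [map_sub, hw, sub_self])
    have hwC : w ∈ C := F.quad a.2 u
    have hau' : (a : H) • u' = u' + w := by
      have := hu'C a a.2
      rw [smul_sub, show (a : H) • u = u + w by rw [hwdef]; abel] at this
      rw [sub_eq_sub_iff_add_eq_add] at this
      exact (add_left_cancel (a := u) (by rw [← this]; abel)).symm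
    have ha'u' : a' • u' = u' := by
      have h1 : a' • u' = -u' := by
        rw [hu'def, smul_sub, ← mul_smul, ha'2, one_smul, neg_sub]
      rw [h1, neg_eq_of_add_eq_zero_left (add_self_eq_zero' hexp u')]
    have hu'ne : u' ∉ C := fun h => hu (by
      have := C.add_mem hu'C h
      rwa [sub_add_cancel] at this)
    set d := (a : H) * a' with hd
    have hdw : d • w = u' := by
      rw [hd, mul_smul, show a' • w = w + u' by rw [hu'def]; abel, smul_add, hwC a a.2, hau',
        add_left_comm, add_self_eq_zero' hexp, add_zero]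
    have hdu' : d • u' = u' + w := by rw [hd, mul_smul, ha'u', hau']
    have hd3 : d ^ 3 • w = w := by
      rw [pow_succ, pow_two, mul_smul, hdw, mul_smul, hdu', smul_add, hdu', hdw,
        add_right_comm, add_self_eq_zero' hexp, zero_add]
    have hdne : d • w ≠ w := fun h => hu'ne (by rw [← hdw, h]; exact hwC)
    have hdvd : 3 ∣ orderOf d := by
      have hfix : ∀ k : ℕ, d ^ (3 * k) • w = w := fun k => by
        induction k with
        | zero => simp
        | succ k ih => rw [mul_add, mul_one, pow_add, mul_smul, hd3, ih]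
      by_contra hn
      have h1 : d ^ (orderOf d % 3) • w = w := by
        conv_rhs => rw [← one_smul H w, ← pow_orderOf_eq_one d,
          ← Nat.mod_add_div (orderOf d) 3, pow_add, mul_smul, hfix]
      have h2 : orderOf d % 3 = 1 ∨ orderOf d % 3 = 2 := by omega
      rcases h2 with h2 | h2 <;> rw [h2] at h1
      · exact hdne (by rwa [pow_one] at h1)
      · refine hdne ?_
        conv_rhs => rw [← hd3, pow_succ', mul_smul, h1]
    refine F.base.free ⟨(a : H), d ^ (orderOf d / 3), ?_, ⟨1, ?_⟩, ?_⟩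
    · intro h
      have h1 := orderOf_dvd_of_pow_eq_one h
      have h2 : orderOf d / 3 < orderOf d := Nat.div_lt_self (orderOf_pos d) (by norm_num)
      have h3 : 0 < orderOf d / 3 := Nat.div_pos (Nat.le_of_dvd (orderOf_pos d) hdvd) (by norm_num)
      exact absurd (Nat.le_of_dvd h3 h1) (by omega)
    · rw [← pow_mul, pow_one, Nat.div_mul_cancel hdvd, pow_orderOf_eq_one]
    · rw [← conj_pow, ← inv_pow]
      congr 1
      rw [hd, mul_inv_rev, inv_eq_of_mul_eq_one_right ha'2,
        inv_eq_of_mul_eq_one_right (F.sq a.2), ← mul_assoc, F.sq a.2, one_mul]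
  -- closure
  have hcl : ∀ ξ ∈ Φ, ∀ f ∈ T', ξ.comp f ∈ Φ := by
    intro ξ hξ f hf
    obtain ⟨q, rfl⟩ : ∃ q, D q = ξ := hξ
    obtain ⟨a, rfl⟩ : ∃ a, E a = f := hf
    set p : H := ((Additive.toMul q : Ψ) : H)
    set b : H := ((Additive.toMul a : A) : H)
    have hp : ∀ v, p • v - v ∈ Z := (Additive.toMul q).2.2
    set q₁ := p * a' * p * a' with hq₁
    have hq₁Z : ∀ v, q₁ • v - v ∈ Z := fun v => by
      rw [hq₁, dif_commutator hexp hp ha'2]; exact hp _
    set q₂ := q₁ * b * q₁ * b with hq₂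
    have hb : b * b = 1 := F.sq (Additive.toMul a).2
    have hform : ∀ v, q₂ • v - v = p • (a' • (b • v - v) - (b • v - v)) -
        (a' • (b • v - v) - (b • v - v)) := fun v => by
      rw [hq₂, dif_commutator hexp hq₁Z hb, hq₁, dif_commutator hexp hp ha'2]
    have hq₂mem : q₂ ∈ Ψ := ⟨fun c hc => by
      rw [← sub_eq_zero, hform, hc b (Additive.toMul a).2, sub_self, smul_zero, sub_zero, smul_zero,
        sub_zero], fun v => by rw [hform]; exact hp _⟩
    refine ⟨Additive.ofMul ⟨q₂, hq₂mem⟩, hlin fun v => Subtype.ext ?_⟩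
    rw [LinearMap.comp_apply, show E a = e (Additive.toMul a) from rfl, he]
    exact hform v
  -- counting
  have hpow : ∀ N : Type _, [AddCommGroup N] → [Module (ZMod 2) N] → [Finite N] →
      Nat.card N = 2 ^ finrank (ZMod 2) N := by
    intro N _ _ _
    rw [Module.natCard_eq_pow_finrank (K := ZMod 2), Nat.card_zmod]
  have hstrict : ∀ Θ : Submodule (ZMod 2) ((V ⧸ C) →ₗ[ZMod 2] Z), Θ ≤ Φ → Θ ≠ ⊥ →
      ∀ K : Submodule (ZMod 2) (V ⧸ C), (∀ ξ ∈ Θ, ∀ k ∈ K, ξ k = 0) →
      Nat.card Θ * Nat.card K < Nat.card (V ⧸ C) := by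
    intro Θ hΘ hne K hK
    set S : Subgroup H :=
      (AddSubgroup.toSubgroup' (Θ.toAddSubgroup.comap D)).map Ψ.subtype with hS
    have hSR : S ≤ Cfsg.pCore 2 H := (map_subtype_le _).trans hΨR
    have hcard : Nat.card S = Nat.card Θ := by
      rw [card_map_of_injective Ψ.subtype_injective]
      refine Nat.card_congr (Equiv.ofBijective
        (fun q => (⟨D (Additive.ofMul q.1), q.2⟩ : Θ)) ⟨fun p q h => ?_, fun ξ => ?_⟩)
      · exact Subtype.ext (Additive.ofMul.injective (hDinj (congrArg Subtype.val h)))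
      · obtain ⟨q, hq⟩ : ∃ q, D q = ξ.1 := hΘ ξ.2
        exact ⟨⟨Additive.toMul q, show D q ∈ Θ from hq ▸ ξ.2⟩, Subtype.ext hq⟩
    have hSne : ¬ S ≤ ⊥ := fun h => hne (by
      have h1 : Nat.card Θ = 1 := by rw [← hcard, le_bot_iff.1 h, Subgroup.card_bot]
      exact (Submodule.eq_bot_iff _).2 fun ξ hξ => by
        have := (Nat.card_eq_one_iff_unique.1 h1).1.elim ⟨ξ, hξ⟩ 0
        exact congrArg Subtype.val this)
    have hKfix : K.toAddSubgroup.comap π ≤ fix V S := by
      rintro v hv - ⟨q, hq, rfl⟩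
      have := congrArg Subtype.val (hK _ hq (π v) hv)
      exact sub_eq_zero.1 this
    have h := F.good_core S hSR (Elem.elemOn (hΨel.mono (map_subtype_le _)) ⊤)
      (by rw [ptw_top F.base.faithful]; exact hSne)
    rw [ptw_top F.base.faithful, relIndex_bot_left, AddSubgroup.relIndex_top_right] at h
    have h' := h.trans_le (Nat.le_of_dvd (Nat.pos_of_ne_zero AddSubgroup.index_ne_zero_of_finite)
      (AddSubgroup.index_dvd_of_le hKfix))
    rw [AddSubgroup.index_comap_of_surjective _ (QuotientAddGroup.mk'_surjective C), hcard] at h'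
    calc Nat.card Θ * Nat.card K < K.toAddSubgroup.index * Nat.card K :=
          Nat.mul_lt_mul_of_pos_right h' Nat.card_pos
      _ = Nat.card (V ⧸ C) := by rw [mul_comm]; exact K.toAddSubgroup.card_mul_index
  set n := finrank (ZMod 2) (V ⧸ C) with hn
  have hn0 : 0 < n := Module.finrank_pos
  have hmargin : ∀ Θ : Submodule (ZMod 2) ((V ⧸ C) →ₗ[ZMod 2] Z), Θ ≤ Φ →
      ∀ K : Submodule (ZMod 2) (V ⧸ C), (∀ ξ ∈ Θ, ∀ k ∈ K, ξ k = 0) →
      finrank (ZMod 2) Θ + finrank (ZMod 2) K ≤ n := by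
    intro Θ hΘ K hK
    by_cases hne : Θ = ⊥
    · rw [hne, finrank_bot, zero_add]; exact K.finrank_le
    have h := hstrict Θ hΘ hne K hK
    rw [hpow Θ, hpow K, hpow (V ⧸ C), ← pow_add] at h
    exact ((Nat.pow_lt_pow_iff_right (by norm_num)).1 h).le
  have hlt : finrank (ZMod 2) Φ < n := by
    by_cases hne : Φ = ⊥
    · rwa [hne, finrank_bot]
    have h := hstrict Φ le_rfl hne ⊥ fun ξ _ k hk => by
      rw [(Submodule.mem_bot _).1 hk, map_zero]
    rw [hpow Φ, hpow (V ⧸ C), Nat.card_unique, mul_one] at h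
    exact (Nat.pow_lt_pow_iff_right (by norm_num)).1 h
  have hmain := finrank_add_lt (Φ := Φ) (T := T') hcl (by
    rintro f ⟨a, rfl⟩ hf
    exact hinj (Additive.toMul a) fun h => hf (he0 _ h)) hmargin hlt
  have hcount : Nat.card A ≤ Nat.card Φ * Nat.card T' := by
    have h1 : Nat.card A = Nat.card E.ker * Nat.card E.range := by
      rw [← Nat.card_congr (QuotientAddGroup.quotientKerEquivRange E).toEquiv, mul_comm,
        ← AddSubgroup.card_eq_card_quotient_mul_card_addSubgroup]
      exact (Nat.card_congr Additive.toMul).symm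
    rw [h1]
    refine Nat.mul_le_mul ?_ le_rfl
    have hmemΨ : ∀ a : E.ker, ((Additive.toMul a.1 : A) : H) ∈ Ψ := fun a => by
      have haR : ((Additive.toMul a.1 : A) : H) ∈ Cfsg.pCore 2 H := by
        by_contra haR
        obtain ⟨w, hw⟩ := exists_ne (0 : V ⧸ C)
        refine hw ((hinj _ haR).1 ?_)
        rw [show e (Additive.toMul a.1) = E a.1 from rfl, a.2, LinearMap.zero_apply, map_zero]
      exact ⟨fun c hc => hc _ (Additive.toMul a.1).2, F.core_mem (Additive.toMul a.1).2 haR⟩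
    refine Nat.card_le_card_of_injective
      (fun a => (⟨D (Additive.ofMul ⟨_, hmemΨ a⟩), ⟨_, rfl⟩⟩ : Φ)) fun a b h => ?_
    exact Subtype.ext (Additive.toMul.injective (Subtype.ext (congrArg Subtype.val
      (Additive.ofMul.injective (hDinj (congrArg Subtype.val h))) :)))
  have hfin := F.index_le.trans hcount
  rw [show (fix V A).index = Nat.card (V ⧸ C) from rfl, hpow (V ⧸ C), hpow Φ, hpow T', ← pow_add,
    Nat.pow_le_pow_iff_right (by norm_num)] at hfin
  omega

end Final

end CfsgLib.SThreeFree
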