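import Cfsg.Agent.PMinFF.Basic

/-!
Submodules on which every elementary abelian subgroup of a `2`-group acts strictly above the offender
bound, and their sums.
-/

set_option autoImplicit false
set_option linter.unusedSectionVars false

namespace CfsgLib.SThreeFree

open Subgroup CfsgLib.OffGen CfsgLib.PMinFF

variable {H : Type*} [Group H] [Finite H]
variable {V : Type*} [AddCommGroup V] [Finite V] [DistribMulAction H V]

/-- The pointwise stabilizer. -/
def ptw (H : Type*) [Group H] {V : Type*} [AddCommGroup V] [DistribMulAction H V]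
    (Y : AddSubgroup V) : Subgroup H where
  carrier := {g | ∀ y ∈ Y, g • y = y}
  one_mem' := fun y _ => one_smul _ y
  mul_mem' := fun {a b} ha hb y hy => by rw [mul_smul, hb y hy, ha y hy]
  inv_mem' := fun {a} ha y hy => by rw [inv_smul_eq_iff, ha y hy]

theorem mem_ptw {Y : AddSubgroup V} {g : H} : g ∈ ptw H Y ↔ ∀ y ∈ Y, g • y = y := Iff.rfl

theorem le_ptw_iff {Y : AddSubgroup V} {B : Subgroup H} : B ≤ ptw H Y ↔ Y ≤ fix V B :=
  ⟨fun h _ hy _ hb => h hb _ hy, fun h _ hb _ hy => h hy _ hb⟩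

theorem ptw_anti {Y Y' : AddSubgroup V} (h : Y ≤ Y') : ptw H Y' ≤ ptw H Y :=
  fun _ hg y hy => hg y (h hy)

theorem ptw_sup (Y Y' : AddSubgroup V) : ptw H (Y ⊔ Y') = ptw H Y ⊓ ptw H Y' := by
  refine le_antisymm (le_inf (ptw_anti le_sup_left) (ptw_anti le_sup_right)) fun g hg v hv => ?_
  obtain ⟨a, ha, b, hb, rfl⟩ := AddSubgroup.mem_sup.1 hv
  rw [smul_add, hg.1 a ha, hg.2 b hb]

/-- The image of a subgroup under an element. -/
def img (g : H) (Y : AddSubgroup V) : AddSubgroup V := Y.map (DistribSMul.toAddMonoidHom V g)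

theorem mem_img {g : H} {Y : AddSubgroup V} {v : V} : v ∈ img g Y ↔ g⁻¹ • v ∈ Y :=
  ⟨by rintro ⟨y, hy, rfl⟩; simpa using hy, fun h => ⟨_, h, by simp⟩⟩

theorem smul_mem_img {g : H} {Y : AddSubgroup V} {y : V} (hy : y ∈ Y) : g • y ∈ img g Y :=
  ⟨y, hy, rfl⟩

theorem img_one (Y : AddSubgroup V) : img (1 : H) Y = Y := by
  ext v; simp [mem_img]

theorem img_mul (g h : H) (Y : AddSubgroup V) : img (g * h) Y = img g (img h Y) := by
  ext v; simp [mem_img, mul_smul]

theorem img_mono (g : H) {Y Y' : AddSubgroup V} (h : Y ≤ Y') : img g Y ≤ img g Y' :=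
  AddSubgroup.map_mono h

theorem img_sup (g : H) (Y Y' : AddSubgroup V) : img g (Y ⊔ Y') = img g Y ⊔ img g Y' :=
  AddSubgroup.map_sup _ _ _

theorem img_top (g : H) : img g (⊤ : AddSubgroup V) = ⊤ := by
  ext v; simp [mem_img]

theorem smul_injective (g : H) : Function.Injective (DistribSMul.toAddMonoidHom V g) :=
  MulAction.injective g

theorem img_eq_of_le {g : H} {Y : AddSubgroup V} (h : img g Y ≤ Y) : img g Y = Y :=
  AddSubgroup.eq_of_le_of_card_ge h
    (AddSubgroup.card_map_of_injective (smul_injective g)).ge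

/-- The setwise stabilizer. -/
def stab (H : Type*) [Group H] [Finite H] {V : Type*} [AddCommGroup V] [Finite V]
    [DistribMulAction H V] (Y : AddSubgroup V) : Subgroup H where
  carrier := {g | img g Y = Y}
  one_mem' := img_one Y
  mul_mem' := fun {a b} ha hb => by
    show img (a * b) Y = Y
    rw [img_mul, hb, ha]
  inv_mem' := fun {a} ha => by
    show img a⁻¹ Y = Y
    conv_lhs => rw [← (ha : img a Y = Y), ← img_mul, inv_mul_cancel, img_one]

theorem mem_stab {Y : AddSubgroup V} {g : H} : g ∈ stab H Y ↔ img g Y = Y := Iff.rfl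

theorem mem_stab_of {Y : AddSubgroup V} {g : H} (h : ∀ y ∈ Y, g • y ∈ Y) : g ∈ stab H Y :=
  img_eq_of_le (by rintro - ⟨y, hy, rfl⟩; exact h y hy)

theorem smul_mem_of_stab {Y : AddSubgroup V} {g : H} (h : g ∈ stab H Y) {y : V} (hy : y ∈ Y) :
    g • y ∈ Y := (mem_stab.1 h) ▸ smul_mem_img hy

theorem stab_img (g : H) (Y : AddSubgroup V) : stab H (img g Y) = cj g (stab H Y) := by
  ext x
  rw [mem_cj, mem_stab, mem_stab]
  constructor
  · intro h
    rw [img_mul, img_mul, h, ← img_mul, inv_mul_cancel, img_one]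
  · intro h
    conv_rhs => rw [← h, ← img_mul]
    rw [← img_mul]
    congr 1
    group

/-- Invariance. -/
def Inv (T : Subgroup H) (Y : AddSubgroup V) : Prop := ∀ t ∈ T, ∀ y ∈ Y, t • y ∈ Y

theorem inv_iff {T : Subgroup H} {Y : AddSubgroup V} : Inv T Y ↔ T ≤ stab H Y :=
  ⟨fun h t ht => mem_stab_of (h t ht), fun h _ ht _ hy => smul_mem_of_stab (h ht) hy⟩

theorem Inv.sup {T : Subgroup H} {Y Y' : AddSubgroup V} (h : Inv T Y) (h' : Inv T Y') :
    Inv T (Y ⊔ Y') := by
  intro t ht y hy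
  obtain ⟨a, ha, b, hb, rfl⟩ := AddSubgroup.mem_sup.1 hy
  rw [smul_add]
  exact AddSubgroup.mem_sup.2 ⟨_, h t ht a ha, _, h' t ht b hb, rfl⟩

theorem Inv.img {T : Subgroup H} {Y : AddSubgroup V} (h : Inv T Y) (g : H) :
    Inv (cj g T) (img g Y) := by
  rw [inv_iff, stab_img]
  exact cj_mono g (inv_iff.1 h)

/-- Squares of `B` act trivially on `Y`. -/
def ElemOn (B : Subgroup H) (Y : AddSubgroup V) : Prop := ∀ b ∈ B, ∀ y ∈ Y, b • b • y = y

theorem ElemOn.mono {B B' : Subgroup H} {Y Y' : AddSubgroup V} (h : ElemOn B Y) (hB : B' ≤ B)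
    (hY : Y' ≤ Y) : ElemOn B' Y' := fun b hb y hy => h b (hB hb) y (hY hy)

/-- Every elementary action of a subgroup of `T` on `Y` moves more than an offender would. -/
def Good (T : Subgroup H) (Y : AddSubgroup V) : Prop :=
  ∀ B ≤ T, ElemOn B Y → ¬ B ≤ ptw H Y → (ptw H Y).relIndex B < (fix V B).relIndex Y

theorem Good.mono {T T' : Subgroup H} {Y : AddSubgroup V} (h : Good T Y) (hle : T' ≤ T) :
    Good T' Y := fun B hB => h B (hB.trans hle)

theorem good_of_fixed {T : Subgroup H} {Y : AddSubgroup V} (h : T ≤ ptw H Y) : Good T Y :=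
  fun _ hB _ hn => absurd (hB.trans h) hn

theorem good_bot (T : Subgroup H) : Good T (⊥ : AddSubgroup V) :=
  good_of_fixed fun t _ y hy => by rw [AddSubgroup.mem_bot.1 hy, smul_zero]

theorem ptw_img (g : H) (Y : AddSubgroup V) : ptw H (img g Y) = cj g (ptw H Y) := by
  ext x
  rw [mem_cj]
  constructor
  · intro h y hy
    rw [mul_smul, mul_smul, h _ (smul_mem_img hy), inv_smul_smul]
  · intro h v hv
    have := congrArg (g • ·) (h _ (mem_img.1 hv))
    simpa [mul_smul] using this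

theorem fix_cj (g : H) (B : Subgroup H) : fix V (cj g B) = img g (fix V B) := by
  ext v
  rw [mem_fix_cj, mem_img]

theorem Good.img {T : Subgroup H} {Y : AddSubgroup V} (h : Good T Y) (g : H) :
    Good (cj g T) (img g Y) := by
  intro B hB hE hn
  obtain ⟨B₀, rfl⟩ : ∃ B₀, B = cj g B₀ := ⟨cj g⁻¹ B, (cj_cj_inv g B).symm⟩
  rw [ptw_img] at hn ⊢
  rw [fix_cj, cj, cj, relIndex_map_map_of_injective _ _ (MulAut.conj g).injective,
    SThreeFree.img, SThreeFree.img,
    AddSubgroup.relIndex_map_map_of_injective _ _ (smul_injective g)]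
  refine h B₀ (by simpa [cj_inv_cj] using cj_mono g⁻¹ hB) (fun b hb y hy => ?_)
    fun hle => hn (cj_mono g hle)
  have := congrArg (g⁻¹ • ·) (hE _ (conj_mem_cj hb) _ (smul_mem_img hy))
  simpa [mul_smul] using this

theorem relIndex_ne_zero' (A B : AddSubgroup V) : A.relIndex B ≠ 0 :=
  AddSubgroup.index_ne_zero_of_finite

theorem relIndex_ptw_mul {B : Subgroup H} {Y Y' : AddSubgroup V} (h : Y ≤ Y') :
    (ptw H Y').relIndex (B ⊓ ptw H Y) * (ptw H Y).relIndex B = (ptw H Y').relIndex B := by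
  have e := relIndex_mul_relIndex (ptw H Y' ⊓ B) (B ⊓ ptw H Y) B
    (le_inf inf_le_right (inf_le_left.trans (ptw_anti h))) inf_le_left
  rw [inf_relIndex_right, inf_comm B, inf_relIndex_right] at e
  rw [← e, inf_comm B]
  congr 1
  rw [← inf_relIndex_right (ptw H Y'), ← inf_relIndex_right (ptw H Y' ⊓ B)]
  congr 1
  ext x
  simp only [mem_inf]
  exact ⟨fun ⟨a, b, c⟩ => ⟨⟨a, c⟩, b, c⟩, fun ⟨⟨a, _⟩, b, c⟩ => ⟨a, b, c⟩⟩

theorem relIndex_fix_mul {B C : Subgroup H} (Y : AddSubgroup V) (h : C ≤ B) :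
    (fix V B).relIndex (fix V C ⊓ Y) * (fix V C).relIndex Y = (fix V B).relIndex Y := by
  have e := AddSubgroup.relIndex_mul_relIndex (fix V B ⊓ Y) (fix V C ⊓ Y) Y
    (inf_le_inf_right _ (fix_anti h)) inf_le_right
  rw [AddSubgroup.inf_relIndex_right, AddSubgroup.inf_relIndex_right] at e
  rw [← e]
  congr 1
  rw [← AddSubgroup.inf_relIndex_right (fix V B), ← AddSubgroup.inf_relIndex_right (fix V B ⊓ Y)]
  congr 1
  ext x
  simp only [AddSubgroup.mem_inf]
  exact ⟨fun ⟨a, b, c⟩ => ⟨⟨a, c⟩, b, c⟩, fun ⟨⟨a, _⟩, b, c⟩ => ⟨a, b, c⟩⟩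

theorem sup_aux {T : Subgroup H} {Y Y' : AddSubgroup V} (h : Good T Y') {B : Subgroup H}
    (hB : B ≤ T) (hE : ElemOn B (Y ⊔ Y')) (hY : B ≤ ptw H Y) (hn : ¬ B ≤ ptw H (Y ⊔ Y')) :
    (ptw H (Y ⊔ Y')).relIndex B < (fix V B).relIndex (Y ⊔ Y') := by
  have e : (ptw H (Y ⊔ Y')).relIndex B = (ptw H Y').relIndex B := by
    rw [← inf_relIndex_right, ← inf_relIndex_right (ptw H Y'), ptw_sup]
    congr 1
    exact le_antisymm (inf_le_inf_right _ inf_le_right)
      (le_inf (le_inf (inf_le_right.trans hY) inf_le_left) inf_le_right)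
  rw [e]
  refine (h B hB (hE.mono le_rfl le_sup_right) fun hle => hn ?_).trans_le
    (AddSubgroup.relIndex_le_of_le_right le_sup_right (relIndex_ne_zero' _ _))
  rw [ptw_sup]
  exact le_inf hY hle

theorem Good.sup {T : Subgroup H} {Y Y' : AddSubgroup V} (h : Good T Y) (h' : Good T Y') :
    Good T (Y ⊔ Y') := by
  intro B hB hE hn
  by_cases hY : B ≤ ptw H Y
  · exact sup_aux h' hB hE hY hn
  set B₁ := B ⊓ ptw H Y with hB₁
  rw [← relIndex_ptw_mul (B := B) (le_sup_left : Y ≤ Y ⊔ Y'),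
    ← relIndex_fix_mul (Y ⊔ Y') (inf_le_left : B₁ ≤ B), mul_comm]
  have h1 : (ptw H Y).relIndex B < (fix V B).relIndex (fix V B₁ ⊓ (Y ⊔ Y')) :=
    (h B hB (hE.mono le_rfl le_sup_left) hY).trans_le
      (AddSubgroup.relIndex_le_of_le_right
        (le_inf (le_ptw_iff.1 inf_le_right) le_sup_left) (relIndex_ne_zero' _ _))
  have h2 : (ptw H (Y ⊔ Y')).relIndex B₁ ≤ (fix V B₁).relIndex (Y ⊔ Y') := by
    by_cases hn1 : B₁ ≤ ptw H (Y ⊔ Y')
    · rw [relIndex_eq_one.2 hn1]
      exact Nat.one_le_iff_ne_zero.2 (relIndex_ne_zero' _ _)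
    · exact (sup_aux h' (inf_le_left.trans hB) (hE.mono inf_le_left le_rfl) inf_le_right hn1).le
  exact Nat.mul_lt_mul_of_lt_of_le h1 h2 (Nat.pos_of_ne_zero (relIndex_ne_zero' _ _))

theorem Good.iSup {ι : Type*} [Finite ι] {T : Subgroup H} {Y : ι → AddSubgroup V}
    (h : ∀ i, Good T (Y i)) : Good T (⨆ i, Y i) := by
  classical
  have := Fintype.ofFinite ι
  rw [← Finset.sup_univ_eq_iSup]
  exact Finset.sup_induction (good_bot T) (fun _ ha _ hb => ha.sup hb) fun i _ => h i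

/-- The subgroup generated by the images under `X`. -/
def genIn (X : Subgroup H) (Y : AddSubgroup V) : AddSubgroup V := ⨆ x : X, img (x : H) Y

theorem le_genIn (X : Subgroup H) (Y : AddSubgroup V) : Y ≤ genIn X Y :=
  le_iSup_of_le (1 : X) (by rw [OneMemClass.coe_one, img_one])

theorem img_le_genIn {X : Subgroup H} (Y : AddSubgroup V) {x : H} (hx : x ∈ X) :
    img x Y ≤ genIn X Y := le_iSup (fun x : X => img (x : H) Y) ⟨x, hx⟩

theorem genIn_le {X : Subgroup H} {Y W : AddSubgroup V} (hW : X ≤ stab H W) (hY : Y ≤ W) :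
    genIn X Y ≤ W := iSup_le fun x => (img_mono _ hY).trans (hW x.2).le

theorem le_stab_genIn (X : Subgroup H) (Y : AddSubgroup V) : X ≤ stab H (genIn X Y) := by
  intro g hg
  refine img_eq_of_le ?_
  rw [genIn, SThreeFree.img, AddSubgroup.map_iSup]
  exact iSup_le fun x => le_iSup_of_le ((⟨g, hg⟩ : X) * x) (img_mul g x Y).ge

/-- Transport along a homomorphism of groups and an injection of modules. -/
theorem good_map_iff {H' V' : Type*} [Group H'] [Finite H'] [AddCommGroup V'] [Finite V']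
    [DistribMulAction H' V'] (f : H →* H') (e : V' →+ V) (he : Function.Injective e)
    (hcomp : ∀ g v, g • e v = e (f g • v)) (T : Subgroup H) (Y : AddSubgroup V') :
    Good T (Y.map e) ↔ Good (T.map f) Y := by
  have hp : ptw H (Y.map e) = (ptw H' Y).comap f := by
    ext g
    exact ⟨fun h y hy => he ((hcomp g y).symm.trans (h _ ⟨y, hy, rfl⟩)),
      fun h => by rintro - ⟨y, hy, rfl⟩; rw [hcomp, h y hy]⟩
  have hf : ∀ B : Subgroup H, (fix V B).comap e = fix V' (B.map f) := fun B => by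
    ext v
    constructor
    · rintro h - ⟨b, hb, rfl⟩
      exact he ((hcomp b v).symm.trans (h b hb))
    · intro h b hb
      rw [hcomp, h _ ⟨b, hb, rfl⟩]
  have key : ∀ B : Subgroup H,
      (ptw H (Y.map e)).relIndex B = (ptw H' Y).relIndex (B.map f) ∧
      (fix V B).relIndex (Y.map e) = (fix V' (B.map f)).relIndex Y ∧
      (ElemOn B (Y.map e) ↔ ElemOn (B.map f) Y) ∧
      (B ≤ ptw H (Y.map e) ↔ B.map f ≤ ptw H' Y) := by
    intro B
    refine ⟨by rw [hp, relIndex_comap], by rw [← hf, AddSubgroup.relIndex_comap],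
      ⟨?_, fun h b hb => ?_⟩, by rw [hp, map_le_iff_le_comap]⟩
    · rintro h - ⟨b, hb, rfl⟩ y hy
      exact he (by rw [← hcomp, ← hcomp, h b hb _ ⟨y, hy, rfl⟩])
    · rintro - ⟨y, hy, rfl⟩
      rw [hcomp, hcomp, h _ ⟨b, hb, rfl⟩ y hy]
  constructor
  · intro h B' hB' hE hn
    have hmap : (B'.comap f ⊓ T).map f = B' := by
      refine le_antisymm ((map_mono inf_le_left).trans (map_comap_le _ _)) fun b hb => ?_
      obtain ⟨t, ht, rfl⟩ := hB' hb
      exact ⟨t, ⟨hb, ht⟩, rfl⟩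
    obtain ⟨k1, k2, k3, k4⟩ := key (B'.comap f ⊓ T)
    rw [hmap] at k1 k2 k3 k4
    have := h _ inf_le_right (k3.2 hE) fun hle => hn (k4.1 hle)
    rwa [k1, k2] at this
  · intro h B hB hE hn
    obtain ⟨k1, k2, k3, k4⟩ := key B
    rw [k1, k2]
    exact h _ (map_mono hB) (k3.1 hE) fun hle => hn (k4.2 hle)

theorem img_map {H' V' : Type*} [Group H'] [Finite H'] [AddCommGroup V'] [Finite V']
    [DistribMulAction H' V'] (f : H →* H') (e : V' →+ V) (hcomp : ∀ g v, g • e v = e (f g • v))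
    (g : H) (Y : AddSubgroup V') : img g (Y.map e) = (img (f g) Y).map e := by
  rw [img, img, AddSubgroup.map_map, AddSubgroup.map_map]
  congr 1
  ext v
  exact hcomp g v

theorem genIn_map {H' V' : Type*} [Group H'] [Finite H'] [AddCommGroup V'] [Finite V']
    [DistribMulAction H' V'] (f : H →* H') (e : V' →+ V) (hcomp : ∀ g v, g • e v = e (f g • v))
    (X : Subgroup H) (Y : AddSubgroup V') :
    genIn X (Y.map e) = (genIn (X.map f) Y).map e := by
  simp only [genIn, AddSubgroup.map_iSup, img_map f e hcomp]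
  refine le_antisymm (iSup_le fun x => le_iSup_of_le ⟨f x, mem_map_of_mem f x.2⟩ le_rfl)
    (iSup_le ?_)
  rintro ⟨-, x, hx, rfl⟩
  exact le_iSup_of_le ⟨x, hx⟩ le_rfl

end CfsgLib.SThreeFree
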