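import Cfsg.Agent.SThreeFree.Final

/-!
In a group without inverted elements of order a power of three, goodness for a Sylow `2`-subgroup
passes to the submodule generated by a good one.
-/

set_option autoImplicit false
set_option linter.unusedSectionVars false
set_option linter.style.haveILetI false

namespace CfsgLib.SThreeFree

open Subgroup CfsgLib.OffGen CfsgLib.PMinFF CfsgLib.YMinimal

universe u v

variable {H : Type*} [Group H] [Finite H]
variable {V : Type*} [AddCommGroup V] [Finite V] [DistribMulAction H V]

/-- The action on an invariant submodule, modulo its kernel, as a module. -/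
theorem exists_faithful_quotient (U : AddSubgroup V) (hU : ∀ g : H, g ∈ stab H U) :
    ∃ (N : Subgroup H) (_ : N.Normal) (_ : DistribMulAction (H ⧸ N) U),
      (∀ (g : H) (u : U), g • (u : V) = ((QuotientGroup.mk' N g • u : U) : V)) ∧
      ∀ q : H ⧸ N, (∀ u : U, q • u = u) → q = 1 := by
  letI act : DistribMulAction H U :=
    { smul := fun g u => ⟨g • (u : V), smul_mem_of_stab (hU g) u.2⟩
      one_smul := fun u => Subtype.ext (one_smul H (u : V))
      mul_smul := fun g h u => Subtype.ext (mul_smul g h (u : V))
      smul_zero := fun g => Subtype.ext (smul_zero g)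
      smul_add := fun g u w => Subtype.ext (smul_add g (u : V) w) }
  set N := ptw H (⊤ : AddSubgroup U)
  haveI hN : N.Normal := ⟨fun k hk g u _ => by
    rw [mul_smul, mul_smul, hk _ trivial, smul_inv_smul]⟩
  have hwd : ∀ (u : U) (a b : H), QuotientGroup.leftRel N a b → a • u = b • u := fun u a b hab => by
    have h := (QuotientGroup.leftRel_apply.1 hab : a⁻¹ * b ∈ N) u trivial
    rw [mul_smul, inv_smul_eq_iff] at h
    exact h.symm
  let act' : DistribMulAction (H ⧸ N) U :=
    { smul := fun q u => Quotient.liftOn' q (fun g : H => g • u) (hwd u)
      one_smul := fun u => one_smul H u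
      mul_smul := fun q r u => Quotient.inductionOn₂' q r fun g h => mul_smul g h u
      smul_zero := fun q => Quotient.inductionOn' q fun g => smul_zero g
      smul_add := fun q u w => Quotient.inductionOn' q fun g => smul_add g u w }
  refine ⟨N, hN, act', fun g u => rfl, fun q => ?_⟩
  induction q using Quotient.inductionOn' with
  | h g => exact fun hg => (QuotientGroup.eq_one_iff g).2 fun u _ => hg u

/-- Goodness passes to the generated submodule. -/
theorem good_genIn.{uH, uV} {H : Type uH} [Group H] [Finite H] {V : Type uV} [AddCommGroup V]
    [Finite V] [DistribMulAction H V] (hexp : ∀ v : V, 2 • v = 0)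
    (hfree : ¬ CfsgLib.ZJ.Inverts 3 H) (T : Sylow 2 H) {Y : AddSubgroup V}
    (hi : Inv (T : Subgroup H) Y) (hg : Good (T : Subgroup H) Y) :
    Good (T : Subgroup H) (genIn (⊤ : Subgroup H) Y) := by
  induction hn : Nat.card H using Nat.strong_induction_on generalizing H V with
  | _ n ih =>
    subst hn
    haveI : Fact (Nat.Prime 2) := ⟨Nat.prime_two⟩
    haveI : Fact (Nat.Prime 3) := ⟨Nat.prime_three⟩
    set U := genIn (⊤ : Subgroup H) Y with hUdef
    obtain ⟨N, hN, act, hcomp, hfaith⟩ := exists_faithful_quotient U
      fun g => le_stab_genIn (⊤ : Subgroup H) Y (mem_top g)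
    haveI := hN
    letI := act
    set f := QuotientGroup.mk' N
    have hf : Function.Surjective f := QuotientGroup.mk'_surjective N
    set Y' := Y.addSubgroupOf U with hY'
    have hYU : Y ≤ U := le_genIn _ Y
    have hmap : Y'.map U.subtype = Y := AddSubgroup.map_addSubgroupOf_eq_of_le hYU
    set T' := T.mapSurjective hf with hT'
    have hT : (T' : Subgroup (H ⧸ N)) = (T : Subgroup H).map f := rfl
    have hinj : Function.Injective U.subtype := U.subtype_injective
    have hgood : Good (T' : Subgroup (H ⧸ N)) Y' := by
      rw [hT, ← good_map_iff f U.subtype hinj hcomp, hmap]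
      exact hg
    have hinv : Inv (T' : Subgroup (H ⧸ N)) Y' := by
      rw [hT]
      rintro - ⟨t, ht, rfl⟩ y hy
      show ((f t • y : U) : V) ∈ Y
      rw [← hcomp]
      exact hi t ht _ hy
    have hgen : genIn (⊤ : Subgroup (H ⧸ N)) Y' = ⊤ := by
      refine AddSubgroup.map_injective hinj ?_
      rw [← map_top_of_surjective f hf, ← genIn_map f U.subtype hcomp, hmap,
        ← AddMonoidHom.range_eq_map, AddSubgroup.range_subtype]
    have hb : Base (H ⧸ N) U :=
      { exp := fun u => Subtype.ext (hexp u)
        faithful := hfaith
        free := fun h => hfree (h.of_surjective (by norm_num) f hf)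
        ih := fun X hX P hP W hWi hWg => by
          obtain ⟨S, hS⟩ := hP.exists_sylow
          have hlt : Nat.card X < Nat.card H :=
            lt_of_lt_of_le (lt_of_le_of_ne (card_le_card_group X) fun h =>
              hX (eq_top_of_card_eq X h)) (Nat.card_le_card_of_surjective f hf)
          have hcX : ∀ (g : X) (u : U), g • u = (AddMonoidHom.id U) (X.subtype g • u) :=
            fun _ _ => rfl
          have hSmap : (S : Subgroup X).map X.subtype = P := by
            rw [hS, map_subgroupOf_eq_of_le hP.1]
          have h := ih _ hlt (H := X) (V := U) (fun u => Subtype.ext (hexp u))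
            (fun h => hfree ((h.of_subgroup).of_surjective (by norm_num) f hf)) S
            (Y := W) (fun t ht w hw => hWi _ (hSmap ▸ mem_map_of_mem X.subtype ht) w hw)
            (by
              have h := (good_map_iff X.subtype (AddMonoidHom.id U) Function.injective_id hcX
                (S : Subgroup X) W).2 (by rw [hSmap]; exact hWg)
              rwa [AddSubgroup.map_id] at h)
            rfl
          rw [← hSmap]
          have h2 := (good_map_iff X.subtype (AddMonoidHom.id U) Function.injective_id hcX
            (S : Subgroup X) _).1 (by rw [AddSubgroup.map_id]; exact h)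
          have e := genIn_map X.subtype (AddMonoidHom.id U) hcX (⊤ : Subgroup X) W
          rw [AddSubgroup.map_id, AddSubgroup.map_id, ← MonoidHom.range_eq_map, range_subtype] at e
          rwa [← e] }
    have htop : Good (T' : Subgroup (H ⧸ N)) (⊤ : AddSubgroup U) := by
      by_contra hng
      obtain ⟨_, _, _, _, F⟩ := exists_final hb T' hinv hgood hgen hng
      exact F.contradiction
    rw [hT, ← good_map_iff f U.subtype hinj hcomp, ← AddMonoidHom.range_eq_map,
      AddSubgroup.range_subtype] at htop
    exact htop

end CfsgLib.SThreeFree
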