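import Cfsg.Agent.SThreeFree.Good
import Cfsg.Agent.CharP.LLemma
import Cfsg.Agent.ZJ.Inverts

/-!
A minimal counterexample to the propagation of goodness reduces to a group with a unique maximal
subgroup over a minimal offender and the core.
-/

set_option autoImplicit false
set_option linter.unusedSectionVars false

namespace CfsgLib.SThreeFree

open Subgroup CfsgLib.OffGen CfsgLib.PMinFF CfsgLib.YMinimal

variable {H : Type*} [Group H] [Finite H]
variable {V : Type*} [AddCommGroup V] [Finite V] [DistribMulAction H V]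

/-- Propagation of goodness in proper subgroups, on a faithful elementary module. -/
structure Base (H V : Type*) [Group H] [Finite H] [AddCommGroup V] [Finite V]
    [DistribMulAction H V] : Prop where
  exp : ∀ v : V, 2 • v = 0
  faithful : ∀ g : H, (∀ v : V, g • v = v) → g = 1
  free : ¬ CfsgLib.ZJ.Inverts 3 H
  ih : ∀ X : Subgroup H, X ≠ ⊤ → ∀ P : Subgroup H, IsSylowIn 2 P X → ∀ W : AddSubgroup V,
    Inv P W → Good P W → Good P (genIn X W)

/-- An offender of least order. -/
structure Least (V : Type*) [AddCommGroup V] [Finite V] [DistribMulAction H V] (A : Subgroup H) :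
    Prop where
  elem : Elem 2 A
  ne : A ≠ ⊥
  bound : Nat.card V ≤ meas V A
  least : ∀ B : Subgroup H, Elem 2 B → B ≠ ⊥ → Nat.card V ≤ meas V B → Nat.card A ≤ Nat.card B

theorem Elem.elemOn {B : Subgroup H} (h : Elem 2 B) (Y : AddSubgroup V) : ElemOn B Y :=
  fun b hb y _ => by rw [smul_smul, ← pow_two, h.pow b hb, one_smul]

theorem ptw_top (hf : ∀ g : H, (∀ v : V, g • v = v) → g = 1) : ptw H (⊤ : AddSubgroup V) = ⊥ :=
  eq_bot_iff.2 fun g hg => mem_bot.2 (hf g fun v => hg v trivial)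

theorem card_mul_relIndex {B C : Subgroup H} (h : C ≤ B) :
    Nat.card C * C.relIndex B = Nat.card B := by
  have := relIndex_mul_relIndex ⊥ C B bot_le h
  rwa [relIndex_bot_left, relIndex_bot_left] at this

theorem card_mul_relIndex' {B C : AddSubgroup V} (h : C ≤ B) :
    Nat.card C * C.relIndex B = Nat.card B := by
  have := AddSubgroup.relIndex_mul_relIndex ⊥ C B bot_le h
  rwa [AddSubgroup.relIndex_bot_left, AddSubgroup.relIndex_bot_left] at this

namespace Least

variable {A : Subgroup H} (hA : Least V A)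

include hA

theorem strict {C : Subgroup H} (hC : C ≤ A) (hne : C ≠ A) (hb : C ≠ ⊥) :
    meas V C < Nat.card V := by
  by_contra hcon
  push Not at hcon
  exact hne (Subgroup.eq_of_le_of_card_ge hC (hA.least C (hA.elem.mono hC) hb hcon))

theorem cj (g : H) : Least V (cj g A) :=
  ⟨hA.elem.cj g, cj_ne_bot hA.ne, by rw [meas_cj]; exact hA.bound,
    fun B hB hne hm => by rw [card_cj]; exact hA.least B hB hne hm⟩

/-- A least offender in `P` centralizes everything good for `P`. -/
theorem le_ptw {P : Subgroup H} {W : AddSubgroup V} (hP : Good P W) (hAP : A ≤ P) :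
    A ≤ ptw H W := by
  by_contra hn
  set C := A ⊓ ptw H W with hC
  have h := hP A hAP (Elem.elemOn hA.elem W) hn
  have hW : W ≤ fix V C := le_ptw_iff.1 inf_le_right
  have h' := h.trans_le
    (AddSubgroup.relIndex_le_of_le_right hW (relIndex_ne_zero' (fix V A) (fix V C)))
  have e1 : C.relIndex A = (ptw H W).relIndex A := by rw [hC, inf_comm, inf_relIndex_right]
  rw [← e1] at h'
  have hlt : meas V A < meas V C := by
    rw [meas, meas, ← card_mul_relIndex (inf_le_left : C ≤ A),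
      ← card_mul_relIndex' (fix_anti (V := V) (inf_le_left : C ≤ A))]
    calc Nat.card C * C.relIndex A * Nat.card (fix V A)
        = Nat.card C * (Nat.card (fix V A) * C.relIndex A) := by ring
      _ < _ := Nat.mul_lt_mul_of_pos_left (Nat.mul_lt_mul_of_pos_left h' Nat.card_pos) Nat.card_pos
  have hne : C ≠ ⊥ := fun e => by
    have := hA.bound.trans_lt hlt
    rw [e, meas_bot] at this
    exact lt_irrefl _ this
  exact lt_irrefl _ ((hA.bound.trans_lt hlt).trans
    (hA.strict inf_le_left (fun e => hn (inf_eq_left.1 e)) hne))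

theorem not_good_top (hf : ∀ g : H, (∀ v : V, g • v = v) → g = 1) {P : Subgroup H} (hAP : A ≤ P) :
    ¬ Good P (⊤ : AddSubgroup V) := fun hP =>
  hA.ne (le_bot_iff.1 (ptw_top hf ▸ hA.le_ptw hP hAP))

theorem mem (hexp : ∀ v : V, 2 • v = 0) (hf : ∀ g : H, (∀ v : V, g • v = v) → g = 1) :
    Mem V 2 A := by
  have : Fact (Nat.Prime 2) := ⟨Nat.prime_two⟩
  obtain ⟨A', hA', hm, -⟩ := exists_mem_le hexp hf hA.elem hA.ne hA.bound
  have e : A' = A := Subgroup.eq_of_le_of_card_ge hA' (hA.least A' hm.elem hm.ne hm.bound)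
  exact e ▸ hm

end Least

theorem exists_least (hf : ∀ g : H, (∀ v : V, g • v = v) → g = 1) {T : Sylow 2 H}
    (hng : ¬ Good (T : Subgroup H) (⊤ : AddSubgroup V)) :
    ∃ A : Subgroup H, A ≤ (T : Subgroup H) ∧ Least V A := by
  simp only [Good, not_forall, not_lt] at hng
  obtain ⟨B, hB, hE, hn, hle⟩ := hng
  rw [ptw_top hf] at hn hle
  have hsq : ∀ b ∈ B, b * b = 1 := fun b hb => hf _ fun v => by
    rw [mul_smul]; exact hE b hb v trivial
  have hinv : ∀ b ∈ B, b⁻¹ = b := fun b hb => inv_eq_of_mul_eq_one_right (hsq b hb)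
  have hel : Elem 2 B := ⟨fun a ha b hb => by
    have h := hinv _ (B.mul_mem ha hb)
    rwa [mul_inv_rev, hinv a ha, hinv b hb, eq_comm] at h, fun b hb => by rw [pow_two, hsq b hb]⟩
  have hm : Nat.card V ≤ meas V B := by
    rw [AddSubgroup.relIndex_top_right, relIndex_bot_left] at hle
    rw [meas, ← (fix V B).card_mul_index, mul_comm (Nat.card B)]
    exact Nat.mul_le_mul_left _ hle
  obtain ⟨A, ⟨hAe, hAne, hAb⟩, hmin⟩ := Set.exists_min_image
    {A : Subgroup H | Elem 2 A ∧ A ≠ ⊥ ∧ Nat.card V ≤ meas V A} (fun A => Nat.card A)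
    (Set.toFinite _) ⟨B, hel, fun e => hn (e ▸ le_rfl), hm⟩
  have hA : Least V A := ⟨hAe, hAne, hAb, fun C h1 h2 h3 => hmin C ⟨h1, h2, h3⟩⟩
  obtain ⟨U, hU⟩ := hAe.isPGroup.exists_le_sylow
  have : Fact (Nat.Prime 2) := ⟨Nat.prime_two⟩
  obtain ⟨g, hg⟩ := MulAction.exists_smul_eq H U T
  exact ⟨PMinFF.cj g A, hg ▸ smul_coe g U ▸ cj_mono g hU, hA.cj g⟩

/-- The final configuration. -/
structure Final (T : Sylow 2 H) (Y : AddSubgroup V) (A M : Subgroup H) : Prop where
  base : Base H V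
  gen : genIn (⊤ : Subgroup H) Y = ⊤
  good : Good (T : Subgroup H) Y
  st : stab H Y = M
  le : A ≤ (T : Subgroup H)
  hA : Least V A
  notCore : ¬ A ≤ Cfsg.pCore 2 H
  top : M ≠ ⊤
  hTM : (T : Subgroup H) ≤ M
  uniq : ∀ X : Subgroup H, A ⊔ Cfsg.pCore 2 H ≤ X → X ≠ ⊤ → X ≤ M
  conj : ∀ x, x ∉ M → (A ⊔ cj x A) ⊔ Cfsg.pCore 2 H = ⊤

theorem genIn_top_img (g : H) (Y : AddSubgroup V) :
    genIn (⊤ : Subgroup H) Y ≤ genIn (⊤ : Subgroup H) (img g Y) := by
  refine iSup_le fun x => le_trans ?_ (img_le_genIn _ (mem_top ((x : H) * g⁻¹)))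
  rw [← img_mul, inv_mul_cancel_right]

theorem good_core_top [Fact (Nat.Prime 2)] {T : Sylow 2 H} {Y : AddSubgroup V}
    (hgood : Good (T : Subgroup H) Y) (hgen : genIn (⊤ : Subgroup H) Y = (⊤ : AddSubgroup V)) :
    Good (Cfsg.pCore 2 H) (⊤ : AddSubgroup V) := by
  rw [← hgen]
  refine Good.iSup fun x => (hgood.img (x : H)).mono ?_
  exact (CfsgLib.Fitting.pCore_le_sylow ((x : H) • T)).trans (smul_coe (x : H) T).le

theorem exists_final [Fact (Nat.Prime 2)] (hb : Base H V) (T : Sylow 2 H) {Y : AddSubgroup V}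
    (hinv : Inv (T : Subgroup H) Y) (hgood : Good (T : Subgroup H) Y) (hgen : genIn (⊤ : Subgroup H) Y = ⊤)
    (hng : ¬ Good (T : Subgroup H) (⊤ : AddSubgroup V)) :
    ∃ (T' : Sylow 2 H) (Y' : AddSubgroup V) (A M : Subgroup H), Final T' Y' A M := by
  classical
  obtain ⟨W, hYW, ⟨hWi, hWg⟩, hWmax⟩ := Finite.exists_le_maximal
    (p := fun W : AddSubgroup V => Inv (T : Subgroup H) W ∧ Good (T : Subgroup H) W) (a := Y)
    ⟨hinv, hgood⟩
  have hWgen : genIn (⊤ : Subgroup H) W = (⊤ : AddSubgroup V) :=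
    top_le_iff.1 (hgen ▸ genIn_le (le_stab_genIn (⊤ : Subgroup H) W) (hYW.trans (le_genIn (⊤ : Subgroup H) W)))
  set M := stab H W with hM
  have hTM : (T : Subgroup H) ≤ M := inv_iff.1 hWi
  have hover : ∀ X : Subgroup H, (T : Subgroup H) ≤ X → X ≠ ⊤ → X ≤ M := by
    intro X hTX hX
    have hs : IsSylowIn 2 (T : Subgroup H) X :=
      ⟨hTX, T.2, fun h => T.not_dvd_index (h.trans (relIndex_dvd_index_of_le hTX))⟩
    have h := hb.ih X hX _ hs W hWi hWg
    have e : genIn X W = W := le_antisymm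
      (hWmax ⟨inv_iff.2 (hTX.trans (le_stab_genIn X W)), h⟩ (le_genIn X W)) (le_genIn X W)
    exact (le_stab_genIn X W).trans (le_of_eq (by rw [e]))
  have hMtop : M ≠ ⊤ := by
    intro e
    refine hng ?_
    have : (⊤ : AddSubgroup V) ≤ W := hWgen ▸ genIn_le e.ge le_rfl
    rwa [← top_le_iff.1 this]
  obtain ⟨A, hAT, hA⟩ := exists_least hb.faithful hng
  have hAR : ¬ A ≤ Cfsg.pCore 2 H := fun h =>
    hA.not_good_top hb.faithful h (good_core_top hWg hWgen)
  have hTn : ¬ (T : Subgroup H).Normal := fun h =>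
    hAR (hAT.trans (CfsgLib.Solvable.le_pCore 2 h T.2))
  have hMmax : IsCoatom M := ⟨hMtop, fun X hX => by
    by_contra hne
    exact hX.not_ge (hover X (hTM.trans hX.le) hne)⟩
  have hmin : Cfsg.IsMinimalOver (T : Subgroup H) := by
    refine ⟨?_, M, ⟨hMmax, hTM⟩, fun M' hM' => ?_⟩
    · by_contra hne
      set N := normalClosure ((T : Subgroup H) : Set H)
      have hN : N ≤ M := hover N subset_normalClosure hne
      have hn : normalizer ((T : Subgroup H) : Set H) ≤ M :=
        hover _ le_normalizer fun e => hTn (normalizer_eq_top_iff.1 e)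
      exact hMtop (top_le_iff.1
        ((Sylow.normalizer_sup_eq_top' T (N := N) subset_normalClosure).ge.trans (sup_le hn hN)))
    · exact ((hM'.1.le_iff.1 (hover M' hM'.2 hM'.1.1)).resolve_left hMtop).symm
  obtain ⟨L, hAL, L₀, hAL₀, hlt, huniq, ⟨g, hg⟩, hconj⟩ :=
    l_lemma T hmin M hMmax hTM A hAT hAR
  set O := Cfsg.pCoreOf 2 L
  have hAO : ¬ A ≤ O := by
    intro hle
    obtain ⟨x, hx, hx0⟩ := SetLike.exists_of_lt hlt
    have h := hconj x hx hx0
    refine hlt.not_ge (h.ge.trans ((sup_le (sup_le hle ?_) le_rfl).trans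
      (le_sup_right.trans hAL₀)))
    rintro - ⟨a, ha, rfl⟩
    exact (mem_normalizer_iff.1 (le_normalizer_pCoreOf L hx) a).1 (hle ha)
  obtain ⟨P, hAP, hP⟩ := exists_sylowIn_ge hA.elem.isPGroup (le_sup_left.trans hAL₀)
  have hOP : O ≤ P := hP.le_of_normalized (le_sup_right.trans hAL₀)
    (hlt.le.trans (le_normalizer_pCoreOf L)) (isPGroup_pCoreOf L)
  have hPL : IsSylowIn 2 P L := by
    by_contra hns
    obtain ⟨R', hlt', hR'L, hR'p, hR'n⟩ := exists_gt_normalizing hP.2.1 (hP.1.trans hlt.le) hns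
    set N := L ⊓ normalizer (P : Set H) with hN
    rcases (inf_le_left : N ≤ L).lt_or_eq with h | h
    · have hNL : N ≤ L₀ := huniq N (le_inf (sup_le ((le_sup_left.trans hAL₀).trans hlt.le)
        (pCoreOf_le L)) ((sup_le hAP hOP).trans le_normalizer)) h
      exact hlt'.not_ge (hP.le_of_le hlt'.le hR'p ((le_inf hR'L hR'n).trans hNL))
    · exact hAO (hAP.trans (le_pCoreOf (hP.1.trans hlt.le) (inf_eq_left.1 h) hP.2.1))
  have hPg : P ≤ cj g M := by
    have := hP.1
    rw [hg] at this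
    exact this.trans inf_le_right
  obtain ⟨U, hPU, hU⟩ := exists_sylowIn_ge hP.2.1 hPg
  have hTg : IsSylowIn 2 (cj g (T : Subgroup H)) (cj g M) := by
    refine ⟨cj_mono g hTM, T.2.map _, ?_⟩
    rw [cj, cj, relIndex_map_map_of_injective _ _ (MulAut.conj g).injective]
    exact fun h => T.not_dvd_index (h.trans (relIndex_dvd_index_of_le hTM))
  obtain ⟨k, hk, hkU⟩ := hTg.conj hU
  set Y' := img g W with hY'
  have hst : stab H Y' = cj g M := stab_img g W
  have hY'k : img (k * g) W = Y' := by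
    rw [img_mul]
    exact mem_stab.1 (show k ∈ stab H Y' from hst ▸ hk)
  have hgood' : Good P Y' := by
    rw [← hY'k]
    refine (hWg.img (k * g)).mono (hPU.trans ?_)
    rw [cj_mul]
    exact hkU.ge
  have hLtop : L = ⊤ := by
    by_contra hne
    have h1 := hb.ih L hne P hPL Y' (inv_iff.2 (hPg.trans hst.ge)) hgood'
    obtain ⟨x, hx, hx0⟩ := SetLike.exists_of_lt hlt
    have h2 : A ≤ ptw H (genIn L Y') := hA.le_ptw h1 hAP
    have h3 : cj x A ≤ cj g M := by
      rw [← hst]
      rintro - ⟨a, ha, rfl⟩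
      refine mem_stab_of fun y hy => ?_
      have h4 := h2 ha (x⁻¹ • y) (img_le_genIn Y' (inv_mem hx) (smul_mem_img hy))
      simp only [MulEquiv.coe_toMonoidHom, MulAut.conj_apply, mul_smul, h4, smul_inv_smul]
      exact hy
    have h5 : L ≤ cj g M := by
      rw [← hconj x hx hx0]
      exact sup_le (sup_le (hAP.trans hPg) h3) (hOP.trans hPg)
    exact hlt.not_ge ((le_inf le_rfl h5).trans hg.ge)
  subst hLtop
  have hOeq : O = Cfsg.pCore 2 H := pCoreOf_top
  have hL₀ : L₀ = cj g M := hg.trans (top_inf_eq _)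
  have hPidx : ¬ 2 ∣ P.index := by
    rw [← relIndex_top_right]; exact hPL.2.2
  refine ⟨hP.2.1.toSylow hPidx, Y', A, cj g M,
    { base := hb
      gen := top_le_iff.1 (hWgen.ge.trans (genIn_top_img g W))
      good := hgood'
      st := hst
      le := hAP
      hA := hA
      notCore := hAR
      top := hL₀ ▸ hlt.ne
      hTM := hPg
      uniq := fun X hX hne => hL₀ ▸ huniq X (hOeq ▸ hX) (lt_top_iff_ne_top.2 hne)
      conj := fun x hx => hOeq ▸ hconj x (mem_top x) (hL₀ ▸ hx) }⟩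

end CfsgLib.SThreeFree
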